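import Cfsg.Agent.Lib.ThreeTransp.Ortho3

/-!
Fischer's theorem, the row of the orthogonal groups over the field with three elements: vectors of
value one and singular vectors of a quadratic form over that field.
-/

set_option autoImplicit false
set_option linter.unusedSectionVars false

namespace Cfsg.Agent.Fischer.OThree

open Cfsg.Agent.Forms.Reflections (polB polB_apply)

/-- The space. -/
abbrev Vc (n : ℕ) : Type := Fin n → ZMod 3

variable {n : ℕ} {Q : QuadraticForm (ZMod 3) (Vc n)}

local notation "B" => QuadraticMap.polar Q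

/-- Equal up to sign. -/
def Pm (v w : Vc n) : Prop := v = w ∨ v = -w

theorem Pm.refl (v : Vc n) : Pm v v := Or.inl rfl

theorem Pm.neg (v : Vc n) : Pm (-v) v := Or.inr rfl

theorem Pm.symm {v w : Vc n} (h : Pm v w) : Pm w v := by
  rcases h with rfl | rfl
  · exact Or.inl rfl
  · exact Or.inr (neg_neg w).symm

theorem Pm.trans {u v w : Vc n} (h : Pm u v) (h' : Pm v w) : Pm u w := by
  rcases h with rfl | rfl <;> rcases h' with rfl | rfl
  · exact Or.inl rfl
  · exact Or.inr rfl
  · exact Or.inr rfl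
  · exact Or.inl (neg_neg w)

theorem f3_cases : ∀ x : ZMod 3, x ≠ 0 → x = 1 ∨ x = -1 := by decide

theorem f3_mul_self : ∀ x : ZMod 3, x ≠ 0 → x * x = 1 := by decide

theorem f3_two : (2 : ZMod 3) = -1 := by decide

theorem pm_smul {s : ZMod 3} (hs : s ≠ 0) (v : Vc n) : Pm (s • v) v := by
  rcases f3_cases s hs with rfl | rfl
  · exact Or.inl (one_smul _ v)
  · exact Or.inr (neg_one_smul _ v)

theorem bp_comm (u v : Vc n) : B u v = B v u := QuadraticMap.polar_comm _ u v

theorem bp_add_l (u v w : Vc n) : B (u + v) w = B u w + B v w := QuadraticMap.polar_add_left Q u v w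

theorem bp_add_r (u v w : Vc n) : B u (v + w) = B u v + B u w := QuadraticMap.polar_add_right Q u v w

theorem bp_sub_l (u v w : Vc n) : B (u - v) w = B u w - B v w := QuadraticMap.polar_sub_left Q u v w

theorem bp_sub_r (u v w : Vc n) : B u (v - w) = B u v - B u w := QuadraticMap.polar_sub_right Q u v w

theorem bp_neg_l (u v : Vc n) : B (-u) v = -B u v := QuadraticMap.polar_neg_left Q u v

theorem bp_neg_r (u v : Vc n) : B u (-v) = -B u v := QuadraticMap.polar_neg_right Q u v

theorem bp_smul_l (t : ZMod 3) (u v : Vc n) : B (t • u) v = t * B u v := by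
  rw [QuadraticMap.polar_smul_left, smul_eq_mul]

theorem bp_smul_r (t : ZMod 3) (u v : Vc n) : B u (t • v) = t * B u v := by
  rw [QuadraticMap.polar_smul_right, smul_eq_mul]

theorem bp_zero_r (u : Vc n) : B u 0 = 0 := by
  simpa using bp_smul_r (Q := Q) 0 u 0

theorem bp_self (u : Vc n) : B u u = -Q u := by
  rw [QuadraticMap.polar_self, nsmul_eq_mul, Nat.cast_ofNat, f3_two, neg_one_mul]

theorem qv_add (u v : Vc n) : Q (u + v) = Q u + Q v + B u v := QuadraticMap.map_add Q u v

theorem qv_smul (t : ZMod 3) (u : Vc n) : Q (t • u) = t * t * Q u := by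
  rw [QuadraticMap.map_smul, smul_eq_mul]

theorem qv_neg (u : Vc n) : Q (-u) = Q u := QuadraticMap.map_neg Q u

theorem qv_sub (u v : Vc n) : Q (u - v) = Q u + Q v - B u v := by
  rw [sub_eq_add_neg, qv_add, qv_neg, bp_neg_r]; ring

theorem qv_add_smul (u v : Vc n) (t : ZMod 3) : Q (u + t • v) = Q u + t * t * Q v + t * B u v := by
  rw [qv_add, qv_smul, bp_smul_r]

theorem Pm.qv {v w : Vc n} (h : Pm v w) : Q v = Q w := by
  rcases h with rfl | rfl
  · rfl
  · exact qv_neg w

theorem Pm.bp_l {v w : Vc n} (h : Pm v w) (z : Vc n) : B v z = 0 ↔ B w z = 0 := by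
  rcases h with rfl | rfl
  · rfl
  · rw [bp_neg_l, neg_eq_zero]

theorem Pm.bp_r {v w : Vc n} (h : Pm v w) (z : Vc n) : B z v = 0 ↔ B z w = 0 := by
  rw [bp_comm z v, bp_comm z w]; exact h.bp_l z

theorem ne_zero_of_val {v : Vc n} (h : Q v = 1) : v ≠ 0 := fun e => by
  rw [e, QuadraticMap.map_zero] at h
  exact zero_ne_one h

/-- The reflection in `v`. -/
def rf (Q : QuadraticForm (ZMod 3) (Vc n)) (v w : Vc n) : Vc n :=
  w - (Q v * QuadraticMap.polar (⇑Q) v w) • v

theorem bp_rf {v : Vc n} (hv : Q v ≠ 0) (u w : Vc n) : B (rf Q v u) (rf Q v w) = B u w := by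
  simp only [rf, bp_sub_l, bp_sub_r, bp_smul_l, bp_smul_r, bp_self]
  rw [bp_comm u v]
  revert hv
  generalize Q v = a
  generalize B v u = x
  generalize B v w = y
  generalize B u w = z
  revert a x y z
  decide

theorem rf_fix {v w : Vc n} (h : B v w = 0) : rf Q v w = w := by
  rw [rf, h, mul_zero, zero_smul, sub_zero]

theorem Pm.rf {v v' : Vc n} (h : Pm v v') (w : Vc n) : OThree.rf Q v w = OThree.rf Q v' w := by
  rcases h with rfl | rfl
  · rfl
  · rw [OThree.rf, OThree.rf, qv_neg, bp_neg_l, mul_neg, neg_smul_neg]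

theorem rf_self {v : Vc n} (hv : Q v ≠ 0) : rf Q v v = -v := by
  have : ∀ a : ZMod 3, a ≠ 0 → a * -a = 2 := by decide
  rw [rf, bp_self, this _ hv, two_smul]
  abel

section

variable (hn : 5 ≤ n) (hQ : (QuadraticMap.polarBilin Q).Nondegenerate)
include hn hQ

omit hn in
theorem eq_zero_of_bp {u : Vc n} (h : ∀ y, B u y = 0) : u = 0 := hQ.1 u h

omit hn in
/-- Prescribed values against independent vectors. -/
theorem exists_dual {k : ℕ} (v : Fin k → Vc n) (hv : LinearIndependent (ZMod 3) v) (c : Fin k → ZMod 3) :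
    ∃ f, ∀ i, B (v i) f = c i := by
  obtain ⟨l, hl⟩ := LinearMap.exists_extend ((Finsupp.linearCombination (ZMod 3) c).comp hv.repr)
  refine ⟨((polB Q).toDual hQ).symm l, fun i => ?_⟩
  have h1 := LinearMap.BilinForm.apply_toDual_symm_apply (hB := hQ) l (v i)
  have h2 := LinearMap.congr_fun hl ⟨v i, Submodule.subset_span ⟨i, rfl⟩⟩
  rw [LinearMap.comp_apply, LinearMap.comp_apply, hv.repr_eq_single i _ rfl,
    Finsupp.linearCombination_single, one_smul, Submodule.subtype_apply] at h2
  rw [bp_comm, ← h2, ← h1]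
  rfl

/-- A vector of value one orthogonal to two given vectors, the first of them anisotropic. -/
theorem exists_val {a b : Vc n} (ha : Q a ≠ 0) (d : ZMod 3) : ∃ e, Q e = d ∧ B a e = 0 ∧ B b e = 0 :=
  ThreeTransp.Ortho3.exists_perp hn hQ ha d

/-- Two singular vectors orthogonal to `a` with the same zeros among the vectors of value one. -/
theorem sing_unique {a r s : Vc n} (ha : Q a = 1) (hr : Q r = 0) (hr0 : r ≠ 0) (hs : Q s = 0) (hs0 : s ≠ 0)
    (har : B a r = 0) (has : B a s = 0)
    (h : ∀ z, Q z = 1 → B a z = 0 → B r z = 0 → B s z = 0) : Pm s r := by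
  obtain ⟨e, he, hae, hre⟩ := exists_val hn hQ (a := a) (b := r) (by rw [ha]; exact one_ne_zero) 1
  by_cases hrs : B r s = 0
  · by_contra hne
    have hind : LinearIndependent (ZMod 3) ![a, r, s] := by
      rw [Fintype.linearIndependent_iff]
      intro g hg
      simp only [Fin.sum_univ_three, Matrix.cons_val_zero, Matrix.cons_val_one, Matrix.cons_val] at hg
      have e0 : g 0 = 0 := by
        have := congrArg (B a) hg
        simp only [bp_add_r, bp_smul_r, har, has, bp_self, ha, bp_zero_r, mul_zero, add_zero] at this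
        simpa using this
      rw [e0, zero_smul, zero_add] at hg
      have e2 : g 2 = 0 := by
        by_contra h2
        have hs' : g 2 • s = (-(g 1)) • r := by
          rw [neg_smul, eq_neg_iff_add_eq_zero, add_comm]; exact hg
        by_cases h1 : g 1 = 0
        · rw [h1, neg_zero, zero_smul, smul_eq_zero] at hs'
          exact hs'.elim h2 hs0
        · exact hne ((pm_smul h2 s).symm.trans (hs' ▸ pm_smul (neg_ne_zero.2 h1) r))
      rw [e2, zero_smul, add_zero, smul_eq_zero] at hg
      intro i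
      fin_cases i
      · exact e0
      · exact hg.resolve_right hr0
      · exact e2
    obtain ⟨f, hf⟩ := exists_dual hQ _ hind ![0, 0, 1]
    have f0 : B a f = 0 := hf 0
    have f1 : B r f = 0 := hf 1
    have f2 : B s f = 1 := hf 2
    have := h (f + (1 - Q f) • s) ?_ ?_ ?_
    · rw [bp_add_r, bp_smul_r, f2, bp_self, hs, neg_zero, mul_zero, add_zero] at this
      exact one_ne_zero this
    · rw [qv_add_smul, hs, bp_comm, f2]; ring
    · rw [bp_add_r, bp_smul_r, f0, has, mul_zero, add_zero]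
    · rw [bp_add_r, bp_smul_r, f1, hrs, mul_zero, add_zero]
  · exfalso
    have hsr : B s r ≠ 0 := by rwa [bp_comm]
    have := h (e + ((1 - B s e) * B s r) • r) ?_ ?_ ?_
    · rw [bp_add_r, bp_smul_r, mul_assoc, f3_mul_self _ hsr, mul_one] at this
      simp at this
    · rw [qv_add_smul, he, hr, bp_comm e r, hre]; ring
    · rw [bp_add_r, bp_smul_r, hae, har, mul_zero, add_zero]
    · rw [bp_add_r, bp_smul_r, hre, bp_self, hr, neg_zero, mul_zero, add_zero]

omit hn in
/-- A vector of value one not orthogonal to a singular vector. -/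
theorem exists_one_far {r : Vc n} (hr : Q r = 0) (hr0 : r ≠ 0) : ∃ z, Q z = 1 ∧ B r z ≠ 0 := by
  obtain ⟨f, hf⟩ := exists_dual hQ ![r] (LinearIndependent.of_subsingleton 0 hr0) ![1]
  have f0 : B r f = 1 := hf 0
  refine ⟨f + (1 - Q f) • r, ?_, ?_⟩
  · rw [qv_add_smul, hr, bp_comm, f0]; ring
  · rw [bp_add_r, bp_smul_r, f0, bp_self, hr, neg_zero, mul_zero, add_zero]; exact one_ne_zero

omit hn in
theorem indep_two {r s : Vc n} (hr0 : r ≠ 0) (hs0 : s ≠ 0) (hne : ¬ Pm s r) :
    LinearIndependent (ZMod 3) ![r, s] := by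
  rw [LinearIndependent.pair_iff' hr0]
  intro t e
  by_cases ht : t = 0
  · rw [ht, zero_smul] at e; exact hs0 e.symm
  · exact hne (e ▸ pm_smul ht r)

/-- A singular vector orthogonal to neither of two given ones. -/
theorem exists_mid {r s : Vc n} (hr : Q r = 0) (hr0 : r ≠ 0) (hs : Q s = 0) (hs0 : s ≠ 0) :
    ∃ h, Q h = 0 ∧ B r h ≠ 0 ∧ B s h ≠ 0 := by
  by_cases hrs : B r s = 0
  · by_cases hpm : Pm s r
    · obtain ⟨f, hf⟩ := exists_dual hQ ![r] (LinearIndependent.of_subsingleton 0 hr0) ![1]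
      have f0 : B r f = 1 := hf 0
      have key : B r (f + (-Q f) • r) = 1 := by
        rw [bp_add_r, bp_smul_r, f0, bp_self, hr, neg_zero, mul_zero, add_zero]
      refine ⟨f + (-Q f) • r, ?_, by rw [key]; exact one_ne_zero, ?_⟩
      · rw [qv_add_smul, hr, bp_comm, f0]; ring
      · rw [Ne, hpm.bp_l, key]; exact one_ne_zero
    · obtain ⟨f, hf⟩ := exists_dual hQ _ (indep_two hQ hr0 hs0 hpm) ![1, 1]
      have f0 : B r f = 1 := hf 0
      have f1 : B s f = 1 := hf 1
      refine ⟨f + (-Q f) • r, ?_, ?_, ?_⟩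
      · rw [qv_add_smul, hr, bp_comm, f0]; ring
      · rw [bp_add_r, bp_smul_r, f0, bp_self, hr, neg_zero, mul_zero, add_zero]; exact one_ne_zero
      · rw [bp_add_r, bp_smul_r, f1, bp_comm s r, hrs, mul_zero, add_zero]; exact one_ne_zero
  · have ha : Q (r + s) ≠ 0 := by rwa [qv_add, hr, hs, zero_add, zero_add]
    obtain ⟨e, he, hae, hre⟩ := exists_val hn hQ (a := r + s) (b := r) ha (-B r s)
    have hse : B s e = 0 := by rwa [bp_add_l, hre, zero_add] at hae
    refine ⟨r + s + e, ?_, ?_, ?_⟩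
    · rw [qv_add, qv_add, hr, hs, he, hae]; ring
    · rw [bp_add_r, bp_add_r, hre, bp_self, hr, neg_zero, zero_add, add_zero]; exact hrs
    · rw [bp_add_r, bp_add_r, hse, bp_self, hs, neg_zero, add_zero, add_zero, bp_comm]; exact hrs

omit hn in
/-- A singular vector orthogonal to none of three, the first orthogonal to the others. -/
theorem exists_three {r u v : Vc n} (hr : Q r = 0) (hr0 : r ≠ 0) (hu : Q u = 0) (hv : Q v = 0)
    (hru : B r u = 0) (hrv : B r v = 0) (huv : B u v ≠ 0) :
    ∃ h, Q h = 0 ∧ B r h ≠ 0 ∧ B u h ≠ 0 ∧ B v h ≠ 0 := by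
  have hind : LinearIndependent (ZMod 3) ![r, u, v] := by
    rw [Fintype.linearIndependent_iff]
    intro g hg
    simp only [Fin.sum_univ_three, Matrix.cons_val_zero, Matrix.cons_val_one, Matrix.cons_val] at hg
    have eu := congrArg (B u) hg
    have ev := congrArg (B v) hg
    simp only [bp_add_r, bp_smul_r, bp_self, hu, hv, bp_zero_r, neg_zero, mul_zero, add_zero, zero_add,
      bp_comm u r, bp_comm v r, bp_comm v u, hru, hrv] at eu ev
    have e2 := (mul_eq_zero.1 eu).resolve_right huv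
    have e1 := (mul_eq_zero.1 ev).resolve_right huv
    rw [e1, e2, zero_smul, zero_smul, add_zero, add_zero, smul_eq_zero] at hg
    intro i
    fin_cases i
    · exact hg.resolve_right hr0
    · exact e1
    · exact e2
  obtain ⟨f, hf⟩ := exists_dual hQ _ hind ![1, 1, 1]
  have f0 : B r f = 1 := hf 0
  have f1 : B u f = 1 := hf 1
  have f2 : B v f = 1 := hf 2
  refine ⟨f + (-Q f) • r, ?_, ?_, ?_, ?_⟩
  · rw [qv_add_smul, hr, bp_comm, f0]; ring
  all_goals rw [bp_add_r, bp_smul_r]
  · rw [f0, bp_self, hr, neg_zero, mul_zero, add_zero]; exact one_ne_zero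
  · rw [f1, bp_comm u r, hru, mul_zero, add_zero]; exact one_ne_zero
  · rw [f2, bp_comm v r, hrv, mul_zero, add_zero]; exact one_ne_zero

/-- An anisotropic vector orthogonal to four vectors spanning an orthogonal summand. -/
theorem exists_aniso {a b r s : Vc n}
    (hp : ∀ y, ∃ t : Fin 4 → ZMod 3, ∀ v, v = a ∨ v = b ∨ v = r ∨ v = s →
      B v (y - (t 0 • a + t 1 • b + t 2 • r + t 3 • s)) = 0) :
    ∃ q, Q q ≠ 0 ∧ B a q = 0 ∧ B b q = 0 ∧ B r q = 0 ∧ B s q = 0 := by
  set Φ : Vc n →ₗ[ZMod 3] Fin 4 → ZMod 3 := LinearMap.pi fun i => polB Q (![a, b, r, s] i) with hΦ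
  have hmem : ∀ {u}, u ∈ LinearMap.ker Φ ↔ B a u = 0 ∧ B b u = 0 ∧ B r u = 0 ∧ B s u = 0 := by
    intro u
    rw [LinearMap.mem_ker]
    exact ⟨fun h => ⟨congrFun h 0, congrFun h 1, congrFun h 2, congrFun h 3⟩, fun h => by
      funext i; fin_cases i
      exacts [h.1, h.2.1, h.2.2.1, h.2.2.2]⟩
  by_contra hno
  push Not at hno
  have hq0 : ∀ u ∈ LinearMap.ker Φ, Q u = 0 := fun u hu => by
    by_contra hne
    obtain ⟨h1, h2, h3, h4⟩ := hmem.1 hu
    exact hno u hne h1 h2 h3 h4
  obtain ⟨u, hu, hu0⟩ := Submodule.exists_mem_ne_zero_of_ne_bot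
    (LinearMap.ker_ne_bot_of_finrank_lt (f := Φ) (by simp; omega))
  refine hu0 (eq_zero_of_bp hQ fun y => ?_)
  obtain ⟨t, ht⟩ := hp y
  have hw : y - (t 0 • a + t 1 • b + t 2 • r + t 3 • s) ∈ LinearMap.ker Φ := hmem.2
    ⟨ht a (Or.inl rfl), ht b (Or.inr (Or.inl rfl)), ht r (Or.inr (Or.inr (Or.inl rfl))),
      ht s (Or.inr (Or.inr (Or.inr rfl)))⟩
  have h0 := hq0 _ (Submodule.add_mem _ hu hw)
  rw [qv_add, hq0 _ hu, hq0 _ hw, zero_add, zero_add, bp_sub_r] at h0
  obtain ⟨h1, h2, h3, h4⟩ := hmem.1 hu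
  simpa [bp_add_r, bp_smul_r, bp_comm u a, bp_comm u b, bp_comm u r, bp_comm u s, h1, h2, h3, h4,
    sub_eq_zero] using h0

/-- A singular vector orthogonal to none of four, arranged in a quadrangle. -/
theorem exists_four {p r g g' : Vc n} (hp : Q p = 0) (hr : Q r = 0) (hg : Q g = 0) (hg' : Q g' = 0)
    (hp0 : p ≠ 0) (hpr : B p r = 0) (hne : ¬ Pm r p) (hgg : B g g' = 0)
    (h1 : B p g = 1) (h2 : B r g = 1) (h3 : B p g' = 1) (h4 : B r g' ≠ 0) :
    ∃ h, Q h = 0 ∧ B p h ≠ 0 ∧ B r h ≠ 0 ∧ B g h ≠ 0 ∧ B g' h ≠ 0 := by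
  have hgp : B g p = 1 := by rw [bp_comm, h1]
  have hgr : B g r = 1 := by rw [bp_comm, h2]
  have hg'p : B g' p = 1 := by rw [bp_comm, h3]
  have hrp : B r p = 0 := by rw [bp_comm, hpr]
  have hg'g : B g' g = 0 := by rw [bp_comm, hgg]
  rcases f3_cases _ h4 with h4 | h4
  · -- the differences
    have hg'r : B g' r = 1 := by rw [bp_comm, h4]
    have hd0 : r - p ≠ 0 := fun e => hne (Or.inl (sub_eq_zero.1 e))
    have hQd : Q (r - p) = 0 := by rw [qv_sub, hr, hp, hrp]; ring
    have k : ∃ w c : _, Q (w : Vc n) = -c ∧ B p w = 0 ∧ B g w = 0 ∧ B (r - p) w = 1 ∧ c ≠ (0 : ZMod 3) ∧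
        c + B (g' - g) w ≠ 0 := by
      by_cases he : ∃ t : ZMod 3, g' - g = t • (r - p)
      · obtain ⟨t, ht⟩ := he
        have hind : LinearIndependent (ZMod 3) ![p, g, r - p] := by
          rw [Fintype.linearIndependent_iff]
          intro x hx
          simp only [Fin.sum_univ_three, Matrix.cons_val_zero, Matrix.cons_val_one, Matrix.cons_val] at hx
          have ep := congrArg (B p) hx
          have eg := congrArg (B g) hx
          simp only [bp_add_r, bp_smul_r, bp_sub_r, bp_self, hp, hg, h1, hpr, hgp, hgr, bp_zero_r,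
            neg_zero, sub_self, mul_zero, add_zero, zero_add, mul_one] at ep eg
          rw [ep, eg, zero_smul, zero_smul, zero_add, zero_add, smul_eq_zero] at hx
          intro i
          fin_cases i
          · exact eg
          · exact ep
          · exact hx.resolve_right hd0
        obtain ⟨f, hf⟩ := exists_dual hQ _ hind ![0, 0, 1]
        have f0 : B p f = 0 := hf 0
        have f1 : B g f = 0 := hf 1
        have f2 : B (r - p) f = 1 := hf 2
        obtain ⟨c, hc, hct⟩ := (by decide : ∀ t : ZMod 3, ∃ c : ZMod 3, c ≠ 0 ∧ c + t ≠ 0) t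
        have k2 : B (r - p) (f + (-c - Q f) • (r - p)) = 1 := by
          rw [bp_add_r, bp_smul_r, f2, bp_self, hQd, neg_zero, mul_zero, add_zero]
        refine ⟨f + (-c - Q f) • (r - p), c, ?_, ?_, ?_, k2, hc, ?_⟩
        · rw [qv_add_smul, hQd, bp_comm, f2]; ring
        · rw [bp_add_r, bp_smul_r, f0, bp_sub_r, hpr, bp_self, hp]; ring
        · rw [bp_add_r, bp_smul_r, f1, bp_sub_r, hgr, hgp]; ring
        · rw [ht, bp_smul_l, k2, mul_one]; exact hct
      · push Not at he
        have hind : LinearIndependent (ZMod 3) ![p, g, r - p, g' - g] := by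
          rw [Fintype.linearIndependent_iff]
          intro x hx
          simp only [Fin.sum_univ_four, Matrix.cons_val_zero, Matrix.cons_val_one, Matrix.cons_val] at hx
          have ep := congrArg (B p) hx
          have eg := congrArg (B g) hx
          simp only [bp_add_r, bp_smul_r, bp_sub_r, bp_self, hp, hg, h1, h3, hpr, hgp, hgr, hgg, bp_zero_r,
            neg_zero, sub_self, mul_zero, add_zero, zero_add, mul_one] at ep eg
          rw [ep, eg, zero_smul, zero_smul, zero_add, zero_add] at hx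
          have e3 : x 3 = 0 := by
            by_contra h3'
            refine he (-(x 3)⁻¹ * x 2) ?_
            rw [mul_smul, neg_smul, eq_neg_of_add_eq_zero_left hx, smul_neg, neg_neg,
              inv_smul_smul₀ h3']
          rw [e3, zero_smul, add_zero, smul_eq_zero] at hx
          intro i
          fin_cases i
          · exact eg
          · exact ep
          · exact hx.resolve_right hd0
          · exact e3
        obtain ⟨f, hf⟩ := exists_dual hQ _ hind ![0, 0, 1, 1]
        have f0 : B p f = 0 := hf 0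
        have f1 : B g f = 0 := hf 1
        have f2 : B (r - p) f = 1 := hf 2
        have f3 : B (g' - g) f = 1 := hf 3
        refine ⟨f + (-1 - Q f) • (r - p), 1, ?_, ?_, ?_, ?_, one_ne_zero, ?_⟩
        · rw [qv_add_smul, hQd, bp_comm, f2]; ring
        · rw [bp_add_r, bp_smul_r, f0, bp_sub_r, hpr, bp_self, hp]; ring
        · rw [bp_add_r, bp_smul_r, f1, bp_sub_r, hgr, hgp]; ring
        · rw [bp_add_r, bp_smul_r, f2, bp_self, hQd]; ring
        · rw [bp_add_r, bp_smul_r, f3, bp_sub_l, bp_sub_r g', bp_sub_r g, hg'r, hg'p, hgr, hgp,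
            sub_self, mul_zero, add_zero]
          decide
    obtain ⟨w, c, hw, w0, w1, w2, hc, hc'⟩ := k
    rw [bp_sub_l, w0, sub_zero] at w2
    rw [bp_sub_l, w1, sub_zero] at hc'
    refine ⟨c • p + g + w, ?_, ?_, ?_, ?_, ?_⟩
    · rw [qv_add, qv_add, qv_smul, hp, hg, hw, bp_smul_l, h1, bp_add_l, bp_smul_l, w0, w1]; ring
    · rw [bp_add_r, bp_add_r, bp_smul_r, bp_self, hp, h1, w0]; simp
    · rw [bp_add_r, bp_add_r, bp_smul_r, hrp, h2, w2, mul_zero, zero_add]; decide
    · rw [bp_add_r, bp_add_r, bp_smul_r, hgp, bp_self, hg, w1]; simpa using hc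
    · rw [bp_add_r, bp_add_r, bp_smul_r, hg'p, hg'g, mul_one, add_zero]; exact hc'
  · have hg'r : B g' r = -1 := by rw [bp_comm, h4]
    obtain ⟨q, hq, q0, q1, q2, q3⟩ := exists_aniso hn hQ (a := p) (b := r) (r := g) (s := g') fun y =>
      ⟨![-(B g y + B g' y), -(B g y - B g' y), -(B p y + B r y), -(B p y - B r y)], by
        have k : ∀ a b : ZMod 3, a + (a + b + (a - b)) = 0 ∧ b + (a + b - (a - b)) = 0 := by decide
        rintro v (rfl | rfl | rfl | rfl) <;>
          simp only [Matrix.cons_val_zero, Matrix.cons_val_one, Matrix.cons_val, bp_sub_r, bp_add_r,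
            bp_smul_r, bp_self, hp, hr, hg, hg', hpr, hrp, hgg, hg'g, h1, h2, h3, h4, hgp, hgr, hg'p,
            hg'r, neg_zero, mul_zero, mul_one, mul_neg, neg_neg, add_zero, zero_add]
        · linear_combination (k (B v y) (B r y)).1
        · linear_combination (k (B p y) (B v y)).2
        · linear_combination (k (B v y) (B g' y)).1
        · linear_combination (k (B g y) (B v y)).2⟩
    refine ⟨(-Q q) • p + g + q, ?_, ?_, ?_, ?_, ?_⟩
    · rw [qv_add, qv_add, qv_smul, hp, hg, bp_smul_l, h1, bp_add_l, bp_smul_l, q0, q2]; ring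
    · rw [bp_add_r, bp_add_r, bp_smul_r, bp_self, hp, h1, q0]; simp
    · rw [bp_add_r, bp_add_r, bp_smul_r, hrp, h2, q1]; simp
    · rw [bp_add_r, bp_add_r, bp_smul_r, hgp, bp_self, hg, q2]; simpa using hq
    · rw [bp_add_r, bp_add_r, bp_smul_r, hg'p, hg'g, q3]; simpa using hq

end

end Cfsg.Agent.Fischer.OThree
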