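import Cfsg.Agent.Lib.Fischer.Defs
import Cfsg.Agent.Lib.Fischer.Local.Count
import Cfsg.Agent.Lib.Fischer.OThree.Vec

/-!
Fischer's theorem, the row of the orthogonal groups over the field with three elements: members
labelled by vectors of value one; conjugation acts by the reflections.
-/

set_option autoImplicit false
set_option linter.unusedSectionVars false

namespace Cfsg.Agent.Fischer.OThree

open Cfsg.Agent.ThreeTransp
open Cfsg.Agent.ThreeTransp.Factor (nb Hd mem_Hd Hd_commute)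
open Cfsg.Agent.ThreeTransp.Cover (conj_nb mem_nb_symm)
open Cfsg.Agent.Forms.QuadStd (reflect)
open Cfsg.Agent.Forms.Reflections (act act_mul act_one act_map act_polar act_reflect)

universe u

variable {G : Type u} [Group G] {n : ℕ}

/-- The members of `E` are the points of value one, up to sign. -/
structure Fr (E : Set G) (Q : QuadraticForm (ZMod 3) (Vc n)) (ν : G → Vc n) : Prop where
  val : ∀ a ∈ E, Q (ν a) = 1
  inj : ∀ a ∈ E, ∀ b ∈ E, Pm (ν a) (ν b) → a = b
  surj : ∀ v, Q v = 1 → ∃ a ∈ E, Pm (ν a) v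
  comm : ∀ a ∈ E, ∀ b ∈ E, (QuadraticMap.polar Q (ν a) (ν b) = 0 ↔ a ≠ b ∧ Commute a b)

variable {Q : QuadraticForm (ZMod 3) (Vc n)} {E : Set G} {ν : G → Vc n}

local notation "B" => QuadraticMap.polar Q

theorem pair_eq {v w : Vc n} (h : Pm v w) : ({v, -v} : Set (Vc n)) = {w, -w} := by
  rcases h with rfl | rfl
  · rfl
  · rw [neg_neg, Set.pair_comm]

/-- The labelling from an isomorphism of graphs. -/
theorem exists_fr (h : GIso E (o3R Q)) : ∃ ν, Fr E Q ν := by
  classical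
  obtain ⟨φ, hφ⟩ := h
  choose vec hv hs using fun s : O3P Q => s.2
  have hvmem : ∀ s, vec s ∈ s.1 := fun s => by rw [hs s]; exact Or.inl rfl
  refine ⟨fun a => if ha : a ∈ E then vec (φ ⟨a, ha⟩) else 0, fun a ha => by simp [ha, hv], ?_, ?_, ?_⟩
  · intro a ha b hb he
    simp only [dif_pos ha, dif_pos hb] at he
    have : φ ⟨a, ha⟩ = φ ⟨b, hb⟩ := Subtype.ext (by rw [hs, hs (φ ⟨b, hb⟩)]; exact pair_eq he)
    exact congrArg Subtype.val (φ.injective this)
  · intro v h1
    obtain ⟨⟨a, ha⟩, e⟩ := φ.surjective ⟨{v, -v}, v, h1, rfl⟩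
    refine ⟨a, ha, ?_⟩
    simp only [dif_pos ha]
    have hm := hvmem (φ ⟨a, ha⟩)
    rw [congrArg Subtype.val e] at hm
    exact hm
  · intro a ha b hb
    simp only [dif_pos ha, dif_pos hb]
    have hcomm : Commute a b ↔ o3R Q (φ ⟨a, ha⟩) (φ ⟨b, hb⟩) := hφ ⟨a, ha⟩ ⟨b, hb⟩
    constructor
    · intro h0
      refine ⟨fun e => ?_, hcomm.2 (Or.inr fun v hv' w hw' => ?_)⟩
      · subst e
        rw [bp_self, hv] at h0
        exact (by decide : (-1 : ZMod 3) ≠ 0) h0
      · rw [hs] at hv' hw'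
        rcases hv' with rfl | rfl <;> rcases hw' with rfl | rfl <;>
          simp only [bp_neg_l, bp_neg_r, h0, neg_zero]
    · rintro ⟨hne, hc⟩
      rcases hcomm.1 hc with e | e
      · exact absurd (congrArg Subtype.val (φ.injective e)) hne
      · exact e _ (hvmem _) _ (hvmem _)

namespace Fr

variable (hν : Fr E Q ν)
include hν

/-- An isomorphism of graphs from the labelling. -/
theorem giso : GIso E (o3R Q) := by
  classical
  let g : E → O3P Q := fun a => ⟨{ν a, -ν a}, ν a, hν.val a a.2, rfl⟩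
  have hinj : Function.Injective g := fun a b e => by
    have h1 : ν a ∈ ({ν b, -ν b} : Set (Vc n)) := by
      rw [← show ({ν a, -ν a} : Set (Vc n)) = {ν b, -ν b} from congrArg Subtype.val e]
      exact Or.inl rfl
    exact Subtype.ext (hν.inj a a.2 b b.2 h1)
  have hsurj : Function.Surjective g := by
    rintro ⟨s, v, h1, rfl⟩
    obtain ⟨a, ha, e⟩ := hν.surj v h1
    exact ⟨⟨a, ha⟩, Subtype.ext (pair_eq e)⟩
  refine ⟨Equiv.ofBijective g ⟨hinj, hsurj⟩, fun a b => ?_⟩
  show Commute (a : G) b ↔ g a = g b ∨ _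
  constructor
  · intro hc
    by_cases e : a = b
    · exact Or.inl (by rw [e])
    · have h0 := (hν.comm a a.2 b b.2).2 ⟨fun k => e (Subtype.ext k), hc⟩
      refine Or.inr fun v hv' w hw' => ?_
      rcases hv' with rfl | rfl <;> rcases hw' with rfl | rfl <;>
        simp only [bp_neg_l, bp_neg_r, h0, neg_zero]
  · rintro (e | e)
    · rw [hinj e]
    · exact ((hν.comm a a.2 b b.2).1 (e _ (Or.inl rfl) _ (Or.inl rfl))).2

theorem ne_zero {a : G} (ha : a ∈ E) : ν a ≠ 0 := ne_zero_of_val (hν.val a ha)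

theorem pol_ne {a b : G} (ha : a ∈ E) (hb : b ∈ E) (h : ¬ Commute a b) : B (ν a) (ν b) ≠ 0 :=
  fun k => h ((hν.comm a ha b hb).1 k).2

variable (hconj : ∀ a ∈ E, ∀ b ∈ E, a * b * a⁻¹ ∈ E) (hn : 5 ≤ n)
  (hQ : (QuadraticMap.polarBilin Q).Nondegenerate)
include hconj hn hQ

/-- Conjugation by a member is the reflection. -/
theorem third {a b : G} (ha : a ∈ E) (hb : b ∈ E) : Pm (ν (a * b * a⁻¹)) (rf Q (ν a) (ν b)) := by
  by_cases hab : Commute a b
  · rw [RankThree.conj_self_of_commute hab.symm]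
    by_cases e : a = b
    · subst e
      rw [rf_self (by rw [hν.val a ha]; exact one_ne_zero)]
      exact Or.inr (neg_neg _).symm
    · rw [rf_fix ((hν.comm a ha b hb).2 ⟨e, hab⟩)]
      exact Pm.refl _
  have ht := hconj a ha b hb
  have hβ := hν.pol_ne ha hb hab
  have hat : ¬ Commute a (a * b * a⁻¹) := fun k => hab (by
    have := k.map (MulAut.conj a⁻¹).toMonoidHom
    simpa [mul_assoc] using this)
  have hC := hν.pol_ne ha ht hat
  have key : ∀ z ∈ E, B (ν a) (ν z) = 0 → (B (ν b) (ν z) = 0 ↔ B (ν (a * b * a⁻¹)) (ν z) = 0) := by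
    intro z hz h0
    obtain ⟨haz, hcz⟩ := (hν.comm a ha z hz).1 h0
    have hfix : a * z * a⁻¹ = z := RankThree.conj_self_of_commute hcz.symm
    rw [hν.comm b hb z hz, hν.comm _ ht z hz]
    constructor
    · rintro ⟨hne, hc⟩
      refine ⟨fun e => hne (conj_injective (e.trans hfix.symm)), ?_⟩
      have := hc.map (MulAut.conj a).toMonoidHom
      simpa [hfix] using this
    · rintro ⟨hne, hc⟩
      refine ⟨fun e => hne (by rw [e, hfix]), ?_⟩
      rw [← hfix] at hc
      exact Basic.commute_conj.1 hc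
  obtain ⟨va, hva⟩ : ∃ v, v = ν a := ⟨_, rfl⟩
  obtain ⟨vb, hvb⟩ : ∃ v, v = ν b := ⟨_, rfl⟩
  obtain ⟨vt, hvt⟩ : ∃ v, v = ν (a * b * a⁻¹) := ⟨_, rfl⟩
  have qa : Q va = 1 := by rw [hva]; exact hν.val a ha
  have qb : Q vb = 1 := by rw [hvb]; exact hν.val b hb
  have qt : Q vt = 1 := by rw [hvt]; exact hν.val _ ht
  rw [← hva, ← hvb] at hβ
  rw [← hva, ← hvt] at hC
  obtain ⟨β, hβ'⟩ : ∃ β, β = B va vb := ⟨_, rfl⟩
  obtain ⟨C, hC'⟩ : ∃ C, C = B va vt := ⟨_, rfl⟩
  rw [← hβ'] at hβ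
  rw [← hC'] at hC
  have q1 : Q (vb + β • va) = 0 := by
    rw [qv_add_smul, qa, qb, bp_comm vb va, ← hβ', f3_mul_self _ hβ]; decide
  have q2 : Q (vt + C • va) = 0 := by
    rw [qv_add_smul, qa, qt, bp_comm vt va, ← hC', f3_mul_self _ hC]; decide
  have n1 : vb + β • va ≠ 0 := fun e => hab (by
    have : Pm vb va := by
      rw [eq_neg_of_add_eq_zero_left e]
      exact (Pm.neg _).trans (pm_smul hβ va)
    rw [hvb, hva] at this
    rw [hν.inj b hb a ha this])
  have n2 : vt + C • va ≠ 0 := fun e => hat (by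
    have : Pm vt va := by
      rw [eq_neg_of_add_eq_zero_left e]
      exact (Pm.neg _).trans (pm_smul hC va)
    rw [hvt, hva] at this
    rw [hν.inj _ ht a ha this])
  have o1 : B va (vb + β • va) = 0 := by
    rw [bp_add_r, bp_smul_r, bp_self, qa, ← hβ']; ring
  have o2 : B va (vt + C • va) = 0 := by
    rw [bp_add_r, bp_smul_r, bp_self, qa, ← hC']; ring
  have hpm := sing_unique hn hQ qa q1 n1 q2 n2 o1 o2 fun z hz h0 h1 => by
    obtain ⟨y, hy, e⟩ := hν.surj z hz
    rw [bp_add_l, bp_smul_l, h0, mul_zero, add_zero] at h1 ⊢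
    rw [hvb, ← e.bp_r] at h1
    rw [hvt, ← e.bp_r]
    rw [hva, ← e.bp_r] at h0
    exact (key y hy h0).1 h1
  have hne : ¬ Pm vt vb := fun k => hab (by
    rw [hvt, hvb] at k
    have h3 := hν.inj _ ht b hb k
    show a * b = b * a
    conv_rhs => rw [← h3]
    group)
  rw [← hvt, ← hva, ← hvb, rf, qa, one_mul, ← hβ']
  have two : ∀ x : ZMod 3, x + x = -x := by decide
  rcases ThreeTransp.Ortho3.value_cases hC hβ with hCb | hCb <;> rcases hpm with h | h <;> rw [hCb] at h
  · exact absurd (Or.inl (add_right_cancel h)) hne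
  · refine Or.inr ?_
    rw [sub_eq_add_neg, ← neg_smul, ← two, eq_sub_of_add_eq h]
    module
  · refine Or.inl ?_
    rw [sub_eq_add_neg vb, ← neg_smul, ← two, eq_sub_of_add_eq h]
    module
  · exact absurd (Or.inr (by
      rw [eq_sub_of_add_eq h]
      module)) hne

omit hn hQ in
theorem conj_closure [Finite G] {g : G} (hg : g ∈ Subgroup.closure E) : ∀ b ∈ E, g * b * g⁻¹ ∈ E :=
  conj_of_mem_closure hconj hg

/-- An isometry of the reflection group is realised by conjugation. -/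
theorem realize [Finite G] {σ : Cfsg.isometryGroup (ZMod 3) ⇑Q} (hσ : σ ∈ Cfsg.reflectionSubgroup (⇑Q) 1) :
    ∃ g ∈ Subgroup.closure E, ∀ b ∈ E, Pm (ν (g * b * g⁻¹)) (act σ (ν b)) := by
  have hσ' : σ ∈ Submonoid.closure (Cfsg.reflectionsOfNorm (⇑Q) 1) := by
    rw [← Subgroup.closure_toSubmonoid_of_finite]; exact hσ
  induction hσ' using Submonoid.closure_induction with
  | mem τ hτ =>
    obtain ⟨v, hv, rfl⟩ := ThreeTransp.Ortho3.mem_norm.1 hτ
    obtain ⟨a, ha, e⟩ := hν.surj v hv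
    refine ⟨a, Subgroup.subset_closure ha, fun b hb => ?_⟩
    rw [act_reflect, hv, inv_one, one_mul]
    have := hν.third hconj hn hQ ha hb
    rwa [e.rf, rf, hv, one_mul] at this
  | one => exact ⟨1, one_mem _, fun b _ => by simp [act_one, Pm.refl]⟩
  | mul p q hp hq ihp ihq =>
    obtain ⟨g, hg, eg⟩ := ihp (Subgroup.le_closure_toSubmonoid _ hp)
    obtain ⟨k, hk, ek⟩ := ihq (Subgroup.le_closure_toSubmonoid _ hq)
    refine ⟨g * k, mul_mem hg hk, fun b hb => ?_⟩
    rw [act_mul, show g * k * b * (g * k)⁻¹ = g * (k * b * k⁻¹) * g⁻¹ by group]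
    refine (eg _ (conj_of_mem_closure hconj hk b hb)).trans ?_
    rcases ek b hb with e | e <;> rw [e]
    · exact Pm.refl _
    · rw [map_neg]; exact Pm.neg _

end Fr

/-- Each member has a labelling of its neighbours. -/
theorem exists_fr_at [Finite G] {D : Set G} (h : Std D) {x : G} (hx : x ∈ D) (hν : Fr (nb D x) Q ν) {a : G}
    (ha : a ∈ D) : ∃ μ, Fr (nb D a) Q μ := by
  obtain ⟨g, rfl⟩ := h.prim.1 a ha x hx
  have hto : ∀ y ∈ nb D a, g * y * g⁻¹ ∈ nb D (g * a * g⁻¹) := fun y hy => conj_nb h.grp g hy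
  refine ⟨fun y => ν (g * y * g⁻¹), fun y hy => hν.val _ (hto y hy),
    fun y hy z hz e => conj_injective (hν.inj _ (hto y hy) _ (hto z hz) e), fun v hv => ?_,
    fun y hy z hz => by
      rw [hν.comm _ (hto y hy) _ (hto z hz), Basic.commute_conj]
      exact and_congr_left' ⟨fun k e => k (by rw [e]), fun k e => k (conj_injective e)⟩⟩
  obtain ⟨y, hy, e⟩ := hν.surj v hv
  refine ⟨g⁻¹ * y * g, ?_, ?_⟩
  · have := conj_nb h.grp g⁻¹ hy
    rwa [inv_inv, show g⁻¹ * (g * a * g⁻¹) * g = a by group] at this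
  · rwa [show g * (g⁻¹ * y * g) * g⁻¹ = y by group]

end Cfsg.Agent.Fischer.OThree
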