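import Cfsg.Agent.Lib.Fischer.OThree.Frame

/-!
Fischer's theorem, the row of the orthogonal groups over the field with three elements: the common
neighbours of `x` and a member `f` not commuting with it are the points orthogonal to one singular
point.
-/

set_option autoImplicit false
set_option linter.unusedSectionVars false

namespace Cfsg.Agent.Fischer.OThree

open Cfsg.Agent.ThreeTransp
open Cfsg.Agent.ThreeTransp.Factor (nb Hd mem_Hd Hd_commute)
open Cfsg.Agent.ThreeTransp.Cover (conj_nb mem_nb_symm)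
open Cfsg.Agent.GenA.Tower (far)
open Cfsg.Agent.Forms.QuadStd (reflect)
open Cfsg.Agent.Forms.Reflections (act act_mul act_map act_polar act_reflect)

universe u

variable {G : Type u} [Group G] [Finite G] {n : ℕ}

/-- The hypotheses of the row. -/
structure Setup (D : Set G) (x : G) (Q : QuadraticForm (ZMod 3) (Vc n)) (ν : G → Vc n) : Prop where
  std : Std D
  mem : x ∈ D
  dim : 5 ≤ n
  nd : (QuadraticMap.polarBilin Q).Nondegenerate
  fr : Fr (nb D x) Q ν

variable {Q : QuadraticForm (ZMod 3) (Vc n)} {D : Set G} {x : G} {ν : G → Vc n}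

local notation "B" => QuadraticMap.polar Q

/-- At its member `a`, the common set of `x` and `f` consists of the points orthogonal to `r`. -/
def IsRad (D : Set G) (x : G) (Q : QuadraticForm (ZMod 3) (Vc n)) (ν : G → Vc n) (r : Vc n) (f a : G) : Prop :=
  Q r = 0 ∧ r ≠ 0 ∧ QuadraticMap.polar Q (ν a) r = 0 ∧
    ∀ y ∈ nb D x, QuadraticMap.polar Q (ν y) (ν a) = 0 →
      (y ∈ com D x f ↔ QuadraticMap.polar Q (ν y) r = 0)

theorem act_rf {v : Vc n} (hv : Q v ≠ 0) (w : Vc n) : act (reflect Q v) w = rf Q v w := by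
  have : ∀ c : ZMod 3, c ≠ 0 → c⁻¹ = c := by decide +kernel
  rw [act_reflect, rf, this _ hv]

theorem IsRad.pm {r r' : Vc n} {f a : G} (h : IsRad D x Q ν r f a) (e : Pm r' r) : IsRad D x Q ν r' f a := by
  refine ⟨e.qv.trans h.1, ?_, (e.bp_r _).2 h.2.2.1, fun y hy h0 => (h.2.2.2 y hy h0).trans (e.bp_r _).symm⟩
  rcases e with rfl | rfl
  · exact h.2.1
  · exact neg_ne_zero.2 h.2.1

theorem twin : ∀ β X Y : ZMod 3, β ≠ 0 →
    (Y + β * X = 0 ↔ ((X = 0 ↔ Y = 0) ∧ (X = 0 ↔ Y - β * X = 0))) := by decide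

namespace Setup

variable (h : Setup D x Q ν)
include h

theorem nb_comm {y : G} (hy : y ∈ nb D x) : Commute x y := hy.2.2

theorem fix_nb {y : G} (hy : y ∈ nb D x) : x * y * x⁻¹ = y :=
  RankThree.conj_self_of_commute (h.nb_comm hy).symm

theorem conjE : ∀ a ∈ nb D x, ∀ b ∈ nb D x, a * b * a⁻¹ ∈ nb D x := h.std.nb_conj h.mem

theorem hd_fix {g : G} (hg : g ∈ Hd D x) : g * x * g⁻¹ = x :=
  RankThree.conj_self_of_commute (Hd_commute hg)

theorem far_conj {g f : G} (hg : g * x * g⁻¹ = x) (hf : f ∈ far D x) : g * f * g⁻¹ ∈ far D x := by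
  refine ⟨h.std.grp.2.1 g f hf.1, fun k => hf.2 ?_⟩
  rw [← hg] at k
  exact Basic.commute_conj.1 k

theorem xfx_far {f : G} (hf : f ∈ far D x) : x * f * x⁻¹ ∈ far D x :=
  h.far_conj (by group) hf

theorem com_conj {g : G} (hg : g * x * g⁻¹ = x) {f y : G} (hy : y ∈ com D x f) :
    g * y * g⁻¹ ∈ com D x (g * f * g⁻¹) := by
  have := conj_nb h.std.grp g hy.1
  rw [hg] at this
  exact ⟨this, conj_nb h.std.grp g hy.2⟩

theorem com_xfx (f : G) : com D x (x * f * x⁻¹) = com D x f := by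
  have key : ∀ f y, y ∈ com D x f → y ∈ com D x (x * f * x⁻¹) := fun f y hy => by
    have := h.com_conj (g := x) (by group) hy
    rwa [h.fix_nb hy.1] at this
  refine Set.Subset.antisymm (fun y hy => ?_) fun y hy => key f y hy
  have := key _ y hy
  rwa [show x * (x * f * x⁻¹) * x⁻¹ = (x * x) * f * (x * x)⁻¹ by group, Classes.sq h.std.grp h.mem,
    one_mul, inv_one, mul_one] at this

theorem in_nb {a y : G} (ha : a ∈ nb D x) (hy : y ∈ nb D x) (h0 : B (ν y) (ν a) = 0) : y ∈ nb D a := by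
  obtain ⟨hne, hc⟩ := (h.fr.comm y hy a ha).1 h0
  exact ⟨hy.1, hne, hc.symm⟩

theorem bp_zero {a y : G} (ha : a ∈ nb D x) (hy : y ∈ nb D x) (hy' : y ∈ nb D a) : B (ν y) (ν a) = 0 :=
  (h.fr.comm y hy a ha).2 ⟨hy'.2.1, hy'.2.2.symm⟩

theorem outer_pol {f a : G} {μ : G → Vc n} (hμ : Fr (nb D a) Q μ) (hf : f ∈ far D x) (ha : a ∈ com D x f) :
    B (μ x) (μ f) ≠ 0 :=
  hμ.pol_ne (mem_nb_symm h.mem ha.1) (mem_nb_symm hf.1 ha.2) hf.2

theorem u_props {f a : G} {μ : G → Vc n} (hμ : Fr (nb D a) Q μ) (hf : f ∈ far D x) (ha : a ∈ com D x f) :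
    Q (μ f + B (μ x) (μ f) • μ x) = 0 ∧ μ f + B (μ x) (μ f) • μ x ≠ 0 ∧
      B (μ x) (μ f + B (μ x) (μ f) • μ x) = 0 := by
  have hx := mem_nb_symm h.mem ha.1
  have hf' := mem_nb_symm hf.1 ha.2
  have hb := h.outer_pol hμ hf ha
  refine ⟨?_, fun e => hf.2 ?_, ?_⟩
  · rw [qv_add_smul, hμ.val _ hx, hμ.val _ hf', bp_comm (μ f), f3_mul_self _ hb]; decide
  · have : Pm (μ f) (μ x) := by
      rw [eq_neg_of_add_eq_zero_left e]
      exact (Pm.neg _).trans (pm_smul hb _)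
    rw [hμ.inj _ hf' _ hx this]
  · rw [bp_add_r, bp_smul_r, bp_self, hμ.val _ hx]; ring

/-- The common set seen from its member `a`, in the labelling at `a`. -/
theorem com_iff {f a : G} {μ : G → Vc n} (hμ : Fr (nb D a) Q μ) (hf : f ∈ far D x) (ha : a ∈ com D x f)
    {y : G} (hy : y ∈ nb D x) (hy' : y ∈ nb D a) :
    y ∈ com D x f ↔ B (μ y) (μ f + B (μ x) (μ f) • μ x) = 0 := by
  have hx := mem_nb_symm h.mem ha.1
  have hf' := mem_nb_symm hf.1 ha.2
  have h0 : B (μ y) (μ x) = 0 := (hμ.comm y hy' x hx).2 ⟨hy.2.1, hy.2.2.symm⟩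
  rw [bp_add_r, bp_smul_r, h0, mul_zero, add_zero, hμ.comm y hy' f hf']
  exact ⟨fun k => ⟨k.2.2.1, k.2.2.2.symm⟩, fun k => ⟨hy, hy.1, k.1, k.2.symm⟩⟩

theorem exists_local {f a : G} (hf : f ∈ far D x) (ha : a ∈ com D x f) :
    ∃ r, IsRad D x Q ν r f a := by
  obtain ⟨μ, hμ⟩ := exists_fr_at h.std h.mem h.fr ha.1.1
  have hx := mem_nb_symm h.mem ha.1
  obtain ⟨qu, nu, ou⟩ := h.u_props hμ hf ha
  obtain ⟨u, hu⟩ : ∃ u, u = μ f + B (μ x) (μ f) • μ x := ⟨_, rfl⟩
  rw [← hu] at qu nu ou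
  have hE : ∀ y ∈ nb D a, B (μ x) (μ y) = 0 → y ∈ nb D x := fun y hy h0 => by
    obtain ⟨hne, hc⟩ := (hμ.comm x hx y hy).1 h0
    exact ⟨hy.1, hne.symm, hc⟩
  obtain ⟨v, hv, hxv, huv⟩ := exists_val h.dim h.nd (a := μ x) (b := u)
    (by rw [hμ.val _ hx]; exact one_ne_zero) 1
  obtain ⟨p, hp, ep⟩ := hμ.surj v hv
  have hxp : B (μ x) (μ p) = 0 := (ep.bp_r _).2 hxv
  have hup : B u (μ p) = 0 := (ep.bp_r _).2 huv
  obtain ⟨q, hq, eq⟩ := hμ.surj (μ p + u) (by rw [qv_add, hμ.val p hp, qu, bp_comm, hup]; ring)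
  have hxq : B (μ x) (μ q) = 0 := (eq.bp_r _).2 (by rw [bp_add_r, hxp, ou, add_zero])
  have hpE := hE p hp hxp
  have hqE := hE q hq hxq
  have hap : B (ν a) (ν p) = 0 := by rw [bp_comm]; exact h.bp_zero ha.1 hpE hp
  have haq : B (ν a) (ν q) = 0 := by rw [bp_comm]; exact h.bp_zero ha.1 hqE hq
  obtain ⟨β', hβ'⟩ : ∃ b, b = B (μ p) (μ q) := ⟨_, rfl⟩
  have hpu : B (μ p) u = 0 := by rw [bp_comm]; exact hup
  have hb0 : β' ≠ 0 := by
    rw [hβ']
    rcases eq with e | e <;> rw [e] <;>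
      simp only [bp_neg_r, bp_add_r, bp_self, hμ.val p hp, hpu, add_zero] <;> decide
  have hu' : Pm u (μ q + β' • μ p) := by
    rw [hβ']
    rcases eq with e | e <;> rw [e]
    · rw [bp_add_r, bp_self, hμ.val p hp, hpu, add_zero, neg_one_smul]
      exact Or.inl (by abel)
    · rw [bp_neg_r, bp_add_r, bp_self, hμ.val p hp, hpu, add_zero, neg_neg, one_smul]
      exact Or.inr (by abel)
  have hpq : ¬ Commute p q := fun k => hb0 (by
    have hne : p ≠ q := fun e => by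
      rw [← e] at eq
      rcases eq with k | k
      · exact nu (left_eq_add.1 k)
      · have := congrArg (B (μ p)) k
        rw [bp_neg_r, bp_add_r, hpu, add_zero, bp_self, hμ.val p hp] at this
        exact (by decide : (-1 : ZMod 3) ≠ - -1) this
    rw [hβ']
    exact (hμ.comm p hp q hq).2 ⟨hne, k⟩)
  obtain ⟨β, hβ⟩ : ∃ b, b = B (ν p) (ν q) := ⟨_, rfl⟩
  have hβ0 : β ≠ 0 := hβ ▸ h.fr.pol_ne hpE hqE hpq
  have key : ∀ y ∈ nb D x, y ∈ nb D a → (B (ν y) (ν q + β • ν p) = 0 ↔ y ∈ com D x f) := by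
    intro y hy hy'
    have tr : ∀ z ∈ nb D x, z ∈ nb D a → (B (ν y) (ν z) = 0 ↔ B (μ y) (μ z) = 0) := fun z hz hz' => by
      rw [h.fr.comm y hy z hz, hμ.comm y hy' z hz']
    have ht := tr _ (h.conjE p hpE q hqE) (h.std.nb_conj ha.1.1 p hp q hq)
    rw [(h.fr.third h.conjE h.dim h.nd hpE hqE).bp_r,
      (hμ.third (h.std.nb_conj ha.1.1) h.dim h.nd hp hq).bp_r, rf, rf, h.fr.val p hpE, hμ.val p hp,
      one_mul, one_mul, bp_sub_r, bp_smul_r, bp_sub_r, bp_smul_r, ← hβ, ← hβ'] at ht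
    rw [h.com_iff hμ hf ha hy hy', ← hu, hu'.bp_r, bp_add_r, bp_smul_r, bp_add_r, bp_smul_r,
      twin _ _ _ hβ0, twin _ _ _ hb0, tr p hpE hp, tr q hqE hq, ht]
  refine ⟨ν q + β • ν p, ?_, fun e => hpq ?_, ?_, fun y hy h0 => (key y hy (h.in_nb ha.1 hy h0)).symm⟩
  · rw [qv_add_smul, h.fr.val p hpE, h.fr.val q hqE, bp_comm (ν q), ← hβ, f3_mul_self _ hβ0]; decide
  · have : Pm (ν q) (ν p) := by
      rw [eq_neg_of_add_eq_zero_left e]
      exact (Pm.neg _).trans (pm_smul hβ0 _)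
    rw [h.fr.inj q hqE p hpE this]
  · rw [bp_add_r, bp_smul_r, hap, haq]; ring

theorem rad_unique {r r' : Vc n} {f a : G} (ha : a ∈ nb D x) (h1 : IsRad D x Q ν r f a)
    (h2 : IsRad D x Q ν r' f a) : Pm r' r :=
  sing_unique h.dim h.nd (h.fr.val a ha) h1.1 h1.2.1 h2.1 h2.2.1 h1.2.2.1 h2.2.2.1 fun z hz h0 hr => by
    obtain ⟨y, hy, e⟩ := h.fr.surj z hz
    rw [← e.bp_r, bp_comm] at h0 hr
    rw [← e.bp_r, bp_comm]
    exact (h2.2.2.2 y hy h0).1 ((h1.2.2.2 y hy h0).2 hr)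

/-- Two outer members with the same radical at a common member differ by `x`. -/
theorem pair_of_rad {r : Vc n} {f g a : G} (hf : f ∈ far D x) (hg : g ∈ far D x) (ha : a ∈ com D x f)
    (hag : a ∈ com D x g) (h1 : IsRad D x Q ν r f a) (h2 : IsRad D x Q ν r g a) :
    g = f ∨ g = x * f * x⁻¹ := by
  obtain ⟨μ, hμ⟩ := exists_fr_at h.std h.mem h.fr ha.1.1
  have hx := mem_nb_symm h.mem ha.1
  have hf' := mem_nb_symm hf.1 ha.2
  have hg' := mem_nb_symm hg.1 hag.2
  have hxfx : x * f * x⁻¹ ∈ nb D a := h.std.nb_conj ha.1.1 x hx f hf'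
  obtain ⟨q1, n1, o1⟩ := h.u_props hμ hf ha
  obtain ⟨q2, n2, o2⟩ := h.u_props hμ hg hag
  have hpm : Pm (μ g + B (μ x) (μ g) • μ x) (μ f + B (μ x) (μ f) • μ x) :=
    sing_unique h.dim h.nd (hμ.val x hx) q1 n1 q2 n2 o1 o2 fun z hz h0 hu => by
      obtain ⟨y, hy, e⟩ := hμ.surj z hz
      rw [← e.bp_r] at h0
      rw [← e.bp_r, bp_comm] at hu ⊢
      obtain ⟨hne, hc⟩ := (hμ.comm x hx y hy).1 h0
      have hyE : y ∈ nb D x := ⟨hy.1, hne.symm, hc⟩
      have h3 := h.bp_zero ha.1 hyE hy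
      have h4 := (h.com_iff hμ hf ha hyE hy).2 hu
      exact (h.com_iff hμ hg hag hyE hy).1 ((h2.2.2.2 y hyE h3).2 ((h1.2.2.2 y hyE h3).1 h4))
  have hbf := h.outer_pol hμ hf ha
  have hbg := h.outer_pol hμ hg hag
  have ht := hμ.third (h.std.nb_conj ha.1.1) h.dim h.nd hx hf'
  rw [rf, hμ.val x hx, one_mul] at ht
  revert hpm hbf hbg ht
  generalize B (μ x) (μ f) = c
  generalize B (μ x) (μ g) = d
  intro hpm hc hd ht
  have two : ∀ x : ZMod 3, x + x = -x := by decide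
  rcases ThreeTransp.Ortho3.value_cases hd hc with e | e <;> rcases hpm with k | k <;> rw [e] at k
  · exact Or.inl (hμ.inj g hg' f hf' (Or.inl (add_right_cancel k)))
  · refine Or.inr (hμ.inj g hg' _ hxfx (Pm.trans ?_ ht.symm))
    refine Or.inr ?_
    rw [sub_eq_add_neg, ← neg_smul, ← two, eq_sub_of_add_eq k]
    module
  · refine Or.inr (hμ.inj g hg' _ hxfx (Pm.trans ?_ ht.symm))
    refine Or.inl ?_
    rw [sub_eq_add_neg (μ f), ← neg_smul, ← two, eq_sub_of_add_eq k]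
    module
  · refine Or.inl (hμ.inj g hg' f hf' (Or.inr ?_))
    rw [eq_sub_of_add_eq k]
    module

/-- Conjugation by an element realising an isometry moves the radical by it. -/
theorem rad_conj {g : G} (hg : g ∈ Hd D x) (σ : Cfsg.isometryGroup (ZMod 3) ⇑Q)
    (hσ : ∀ b ∈ nb D x, Pm (ν (g * b * g⁻¹)) (act σ (ν b))) {r : Vc n} {f a : G} (ha : a ∈ nb D x)
    (h1 : IsRad D x Q ν r f a) : IsRad D x Q ν (act σ r) (g * f * g⁻¹) (g * a * g⁻¹) := by
  have hgx := h.hd_fix hg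
  refine ⟨by rw [act_map, h1.1], fun e => h1.2.1 ?_, ?_, ?_⟩
  · refine eq_zero_of_bp h.nd fun y => ?_
    have := act_polar (Q := Q) σ r y
    rw [e] at this
    rw [← this, bp_comm, bp_zero_r]
  · rw [(hσ a ha).bp_l, act_polar, h1.2.2.1]
  intro y hy h0
  obtain ⟨y', hy', rfl⟩ : ∃ y' ∈ nb D x, g * y' * g⁻¹ = y := by
    refine ⟨g⁻¹ * y * g, ?_, by group⟩
    have := conj_of_mem_closure h.conjE (inv_mem hg) y hy
    rwa [inv_inv] at this
  rw [(hσ y' hy').bp_l, (hσ a ha).bp_r, act_polar] at h0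
  rw [(hσ y' hy').bp_l, act_polar, ← h1.2.2.2 y' hy' h0]
  refine ⟨fun k => ?_, fun k => h.com_conj hgx k⟩
  have := h.com_conj (g := g⁻¹) (by
    rw [inv_inv]
    conv_lhs => arg 1; arg 2; rw [← hgx]
    group) k
  rwa [inv_inv, show g⁻¹ * (g * y' * g⁻¹) * g = y' by group,
    show g⁻¹ * (g * f * g⁻¹) * g = f by group] at this

/-- Commuting members of a common set have the same radical. -/
theorem edge {r s : Vc n} {f a b : G} (hf : f ∈ far D x) (ha : a ∈ com D x f) (hb : b ∈ com D x f)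
    (hab : B (ν a) (ν b) = 0) (h1 : IsRad D x Q ν r f a) (h2 : IsRad D x Q ν s f b) : Pm s r := by
  by_contra hne
  have qa := h.fr.val a ha.1
  have qb := h.fr.val b hb.1
  have hba : B (ν b) (ν a) = 0 := by rw [bp_comm]; exact hab
  have hbr : B (ν b) r = 0 := (h1.2.2.2 b hb.1 hba).1 hb
  have has : B (ν a) s = 0 := (h2.2.2.2 a ha.1 hab).1 ha
  have har := h1.2.2.1
  have hbs := h2.2.2.1
  obtain ⟨σ, hσ, sa, sb, sr, ss⟩ : ∃ σ ∈ Cfsg.reflectionSubgroup (⇑Q) 1,
      act σ (ν a) = ν a ∧ act σ (ν b) = ν b ∧ act σ r = r ∧ ¬ Pm (act σ s) s := by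
    have one3 : (1 : ZMod 3) ≠ 0 := one_ne_zero
    by_cases hrs : B r s = 0
    · have hind : LinearIndependent (ZMod 3) ![ν a, ν b, r, s] := by
        rw [Fintype.linearIndependent_iff]
        intro g hg
        simp only [Fin.sum_univ_four, Matrix.cons_val_zero, Matrix.cons_val_one, Matrix.cons_val] at hg
        have ea := congrArg (B (ν a)) hg
        have eb := congrArg (B (ν b)) hg
        simp only [bp_add_r, bp_smul_r, bp_self, qa, qb, hab, hba, har, hbr, has, hbs, bp_zero_r,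
          mul_zero, add_zero, zero_add, mul_neg, mul_one, neg_eq_zero] at ea eb
        rw [ea, eb, zero_smul, zero_smul, zero_add, zero_add] at hg
        have := Fintype.linearIndependent_iff.1 (indep_two h.nd h1.2.1 h2.2.1 hne) ![g 2, g 3]
          (by simpa [Fin.sum_univ_two] using hg)
        intro i
        fin_cases i
        exacts [ea, eb, this 0, this 1]
      obtain ⟨f0, hf0⟩ := exists_dual h.nd _ hind ![0, 0, 0, 1]
      have fa : B (ν a) f0 = 0 := hf0 0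
      have fb : B (ν b) f0 = 0 := hf0 1
      have fr : B r f0 = 0 := hf0 2
      have fs : B s f0 = 1 := hf0 3
      obtain ⟨q, hq⟩ : ∃ q, q = f0 + (1 - Q f0) • s := ⟨_, rfl⟩
      have qq : Q q = 1 := by rw [hq, qv_add_smul, h2.1, bp_comm, fs]; ring
      have qn : Q q ≠ 0 := by rw [qq]; exact one3
      have o : ∀ v, B v f0 = 0 → B v s = 0 → B q v = 0 := fun v e1 e2 => by
        rw [bp_comm, hq, bp_add_r, bp_smul_r, e1, e2, mul_zero, add_zero]
      have qs : B q s = 1 := by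
        rw [hq, bp_add_l, bp_smul_l, bp_self, h2.1, bp_comm, fs]; ring
      refine ⟨reflect Q q, ThreeTransp.Ortho3.reflect_mem qq, ?_, ?_, ?_, ?_⟩
      · rw [act_rf qn, rf_fix (o _ fa has)]
      · rw [act_rf qn, rf_fix (o _ fb hbs)]
      · rw [act_rf qn, rf_fix (o _ fr hrs)]
      · rw [act_rf qn]
        intro k
        have h3 := (k.bp_l s).2 (by rw [bp_self, h2.1, neg_zero])
        rw [rf, qq, one_mul, qs, one_smul, bp_sub_l, bp_self, h2.1, qs] at h3
        exact (by decide : -(0 : ZMod 3) - 1 ≠ 0) h3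
    · have hsr : B s r ≠ 0 := by rwa [bp_comm]
      obtain ⟨β, hβ⟩ : ∃ b, b = B r s := ⟨_, rfl⟩
      rw [← hβ] at hrs
      have hsr' : B s r = β := by rw [hβ, bp_comm]
      obtain ⟨q, hq, qa', qb', qr, qs⟩ := exists_aniso h.dim h.nd (a := ν a) (b := ν b) (r := r) (s := s)
        fun y => ⟨![-B (ν a) y, -B (ν b) y, β * B s y, β * B r y], by
          have k : ∀ b w : ZMod 3, b ≠ 0 → w - b * w * b = 0 := by decide
          intro v hv
          rcases hv with hv | hv | hv | hv <;> rw [hv] <;>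
            simp only [Matrix.cons_val_zero, Matrix.cons_val_one, Matrix.cons_val, bp_sub_r, bp_add_r,
              bp_smul_r, bp_self, qa, qb, h1.1, h2.1, hab, hba, har, hbr, has, hbs, ← hβ, hsr',
              bp_comm r (ν a), bp_comm r (ν b), bp_comm s (ν a), bp_comm s (ν b), neg_zero, mul_zero,
              add_zero, zero_add, mul_neg, mul_one, neg_neg, sub_self] <;>
            exact k _ _ hrs⟩
      have hqa : B q (ν a) = 0 := by rw [bp_comm]; exact qa'
      have hqb : B q (ν b) = 0 := by rw [bp_comm]; exact qb'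
      have hqr : B q r = 0 := by rw [bp_comm]; exact qr
      have hqs : B q s = 0 := by rw [bp_comm]; exact qs
      have hQ' : Q (q + r) = Q q := by rw [qv_add, h1.1, hqr]; ring
      have hn' : Q (q + r) ≠ 0 := by rw [hQ']; exact hq
      have o : ∀ v, B q v = 0 → B r v = 0 → B (q + r) v = 0 := fun v e1 e2 => by
        rw [bp_add_l, e1, e2, add_zero]
      have fa : rf Q (q + r) (ν a) = ν a := rf_fix (o _ hqa (by rw [bp_comm]; exact har))
      have fb : rf Q (q + r) (ν b) = ν b := rf_fix (o _ hqb (by rw [bp_comm]; exact hbr))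
      have fr : rf Q (q + r) r = r := rf_fix (o _ hqr (by rw [bp_self, h1.1, neg_zero]))
      have hmove : B q (rf Q (q + r) s) ≠ 0 := by
        rw [rf, bp_sub_r, bp_smul_r, hqs, bp_add_r, hqr, bp_self, add_zero, bp_add_l, hqs, ← hβ, zero_add,
          hQ']
        exact (by decide : ∀ c β : ZMod 3, c ≠ 0 → β ≠ 0 → 0 - c * β * -c ≠ 0) _ _ hq hrs
      have hstay : ∀ w, Pm w s → B q w = 0 := fun w e => (e.bp_r q).2 hqs
      rcases f3_cases _ hq with h3 | h3
      · refine ⟨reflect Q (q + r), ThreeTransp.Ortho3.reflect_mem (by rw [hQ', h3]), ?_, ?_, ?_, ?_⟩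
        · rw [act_rf hn', fa]
        · rw [act_rf hn', fb]
        · rw [act_rf hn', fr]
        · rw [act_rf hn']
          exact fun e => hmove (hstay _ e)
      · refine ⟨reflect Q q * reflect Q (q + r),
          ThreeTransp.Ortho3.pair_mem h.dim h.nd one3 h3 (by rw [hQ', h3]), ?_, ?_, ?_, ?_⟩
        · rw [act_mul, act_rf hn', fa, act_rf hq, rf_fix hqa]
        · rw [act_mul, act_rf hn', fb, act_rf hq, rf_fix hqb]
        · rw [act_mul, act_rf hn', fr, act_rf hq, rf_fix hqr]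
        · rw [act_mul, act_rf hn', act_rf hq]
          intro e
          have h4 := bp_rf hq q (rf Q (q + r) s)
          rw [rf_self hq, bp_neg_l, hstay _ e, neg_zero] at h4
          exact hmove h4.symm
  obtain ⟨g, hg, eg⟩ := h.fr.realize h.conjE h.dim h.nd hσ
  have hgx := h.hd_fix hg
  have ga : g * a * g⁻¹ = a := h.fr.inj _ (conj_of_mem_closure h.conjE hg a ha.1) a ha.1 (by
    have := eg a ha.1; rwa [sa] at this)
  have gb : g * b * g⁻¹ = b := h.fr.inj _ (conj_of_mem_closure h.conjE hg b hb.1) b hb.1 (by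
    have := eg b hb.1; rwa [sb] at this)
  have r1 := h.rad_conj hg σ eg ha.1 h1
  have r2 := h.rad_conj hg σ eg hb.1 h2
  rw [ga, sr] at r1
  rw [gb] at r2
  have ha' : a ∈ com D x (g * f * g⁻¹) := by
    have := h.com_conj hgx ha; rwa [ga] at this
  have hcom : com D x (g * f * g⁻¹) = com D x f := by
    rcases h.pair_of_rad hf (h.far_conj hgx hf) ha ha' h1 r1 with e | e <;> rw [e]
    exact h.com_xfx f
  refine ss (h.rad_unique hb.1 h2 ⟨r2.1, r2.2.1, r2.2.2.1, fun y hy h0 => ?_⟩)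
  rw [← hcom]
  exact r2.2.2.2 y hy h0

/-- The radical of an outer member. -/
theorem exists_rad {f : G} (hf : f ∈ far D x) :
    ∃ r, Q r = 0 ∧ r ≠ 0 ∧ ∀ a ∈ com D x f, IsRad D x Q ν r f a := by
  obtain ⟨a, ha⟩ := h.std.com_nonempty h.mem hf.1 hf.2
  obtain ⟨r, hr⟩ := h.exists_local hf ha
  have perp : ∀ b ∈ com D x f, B (ν b) r = 0 := by
    intro b hb
    by_contra hne
    obtain ⟨e, he, hae, hre⟩ := exists_val h.dim h.nd (a := ν a) (b := r)
      (by rw [h.fr.val a ha.1]; exact one_ne_zero) 1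
    obtain ⟨z, hz⟩ : ∃ z, z = e + (-(B (ν b) e * B (ν b) r)) • r := ⟨_, rfl⟩
    have zq : Q z = 1 := by rw [hz, qv_add_smul, he, hr.1, bp_comm e r, hre]; ring
    have za : B (ν a) z = 0 := by rw [hz, bp_add_r, bp_smul_r, hae, hr.2.2.1]; ring
    have zr : B r z = 0 := by rw [hz, bp_add_r, bp_smul_r, hre, bp_self, hr.1]; ring
    have zb : B (ν b) z = 0 := by
      rw [hz, bp_add_r, bp_smul_r, neg_mul, mul_assoc, f3_mul_self _ hne, mul_one, add_neg_cancel]
    obtain ⟨y, hy, ey⟩ := h.fr.surj z zq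
    have ya : B (ν y) (ν a) = 0 := (ey.bp_l _).2 (by rw [bp_comm]; exact za)
    have hyA : y ∈ com D x f := (hr.2.2.2 y hy ya).2 ((ey.bp_l _).2 (by rw [bp_comm]; exact zr))
    obtain ⟨s, hs⟩ := h.exists_local hf hyA
    have hsr := h.edge hf ha hyA (by rw [bp_comm]; exact ya) hr hs
    exact hne ((hsr.bp_r _).1 ((hs.2.2.2 b hb.1 ((ey.bp_r _).2 zb)).1 hb))
  refine ⟨r, hr.1, hr.2.1, fun b hb => ?_⟩
  obtain ⟨s, hs⟩ := h.exists_local hf hb
  refine hs.pm (Pm.symm ?_)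
  refine (sing_unique h.dim h.nd (h.fr.val b hb.1) hs.1 hs.2.1 hr.1 hr.2.1 hs.2.2.1 (perp b hb)
    fun z hz h0 hsz => ?_).symm
  obtain ⟨y, hy, e⟩ := h.fr.surj z hz
  rw [← e.bp_r, bp_comm] at h0 hsz
  rw [← e.bp_r, bp_comm]
  exact perp y ((hs.2.2.2 y hy h0).2 hsz)

end Setup

end Cfsg.Agent.Fischer.OThree
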