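import Cfsg.Agent.Lib.Fischer.OThree.Sign

/-!
Fischer's theorem, the row of the orthogonal groups over the field with three elements: one step up
from the points of value one in dimension `n` are those in dimension `n + 1`.
-/

set_option autoImplicit false
set_option linter.unusedSectionVars false

namespace Cfsg.Agent.Fischer.OThree

open Cfsg.Agent.ThreeTransp
open Cfsg.Agent.ThreeTransp.Factor (nb)
open Cfsg.Agent.GenA.Tower (far)

universe u

variable {n : ℕ}

/-- The linear map forgetting the first coordinate. -/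
def tl (n : ℕ) : Vc (n + 1) →ₗ[ZMod 3] Vc n := LinearMap.funLeft (ZMod 3) (ZMod 3) Fin.succ

/-- A square added to the form. -/
noncomputable def extQ (Q : QuadraticForm (ZMod 3) (Vc n)) : QuadraticForm (ZMod 3) (Vc (n + 1)) :=
  QuadraticMap.proj (0 : Fin (n + 1)) 0 + Q.comp (tl n)

theorem extQ_cons (Q : QuadraticForm (ZMod 3) (Vc n)) (t : ZMod 3) (v : Vc n) :
    extQ Q (Fin.cons t v) = t * t + Q v := by
  simp [extQ, tl, LinearMap.funLeft, Function.comp_def]

theorem cons_add (s t : ZMod 3) (v w : Vc n) :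
    (Fin.cons s v : Vc (n + 1)) + Fin.cons t w = Fin.cons (s + t) (v + w) := by
  funext i
  refine Fin.cases ?_ (fun j => ?_) i <;> simp

theorem cons_neg (s : ZMod 3) (v : Vc n) : -(Fin.cons s v : Vc (n + 1)) = Fin.cons (-s) (-v) := by
  funext i
  refine Fin.cases ?_ (fun j => ?_) i <;> simp

theorem pol_cons (Q : QuadraticForm (ZMod 3) (Vc n)) (s t : ZMod 3) (v w : Vc n) :
    QuadraticMap.polar (extQ Q) (Fin.cons s v) (Fin.cons t w) = -(s * t) + QuadraticMap.polar Q v w := by
  rw [QuadraticMap.polar, cons_add, extQ_cons, extQ_cons, extQ_cons, qv_add]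
  have : ∀ s t : ZMod 3, (s + t) * (s + t) = s * s + t * t - s * t := by decide
  rw [this]
  ring

theorem extQ_nd {Q : QuadraticForm (ZMod 3) (Vc n)} (hQ : (QuadraticMap.polarBilin Q).Nondegenerate) :
    (QuadraticMap.polarBilin (extQ Q)).Nondegenerate := by
  have left : ∀ u : Vc (n + 1), (∀ y, QuadraticMap.polar (extQ Q) u y = 0) → u = 0 := by
    intro u hu
    have h0 := hu (Fin.cons 1 0)
    rw [← Fin.cons_self_tail u] at hu h0 ⊢
    rw [pol_cons, bp_zero_r, mul_one, add_zero, neg_eq_zero] at h0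
    have ht : Fin.tail u = 0 := eq_zero_of_bp hQ fun y => by
      have := hu (Fin.cons 0 y)
      rwa [pol_cons, mul_zero, neg_zero, zero_add] at this
    rw [h0, ht]
    funext i
    refine Fin.cases ?_ (fun j => ?_) i <;> simp
  exact ⟨fun u hu => left u hu, fun u hu => left u fun y => by
    rw [QuadraticMap.polar_comm]; exact hu y⟩

theorem cons_pm {s t : ZMod 3} {v w : Vc n} (h : Pm (Fin.cons s v : Vc (n + 1)) (Fin.cons t w)) :
    (s = t ∧ v = w) ∨ (s = -t ∧ v = -w) := by
  rcases h with e | e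
  · exact Or.inl ⟨congrFun e 0, funext fun i => congrFun e i.succ⟩
  · rw [cons_neg] at e
    exact Or.inr ⟨congrFun e 0, funext fun i => congrFun e i.succ⟩

variable {G : Type u} [Group G] [Finite G] {D : Set G} {x : G}
  {Q : QuadraticForm (ZMod 3) (Vc n)} {ν : G → Vc n}

theorem exists_label (h : Setup D x Q ν) : ∃ μ : G → Vc (n + 1), Fr D (extQ Q) μ := by
  classical
  obtain ⟨R, hR⟩ : ∃ R : G → Vc n, ∀ f ∈ far D x, Rad D x Q ν (R f) f := by
    choose r hr using fun f (hf : f ∈ far D x) => h.exists_Rad hf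
    exact ⟨fun f => if hf : f ∈ far D x then r f hf else 0, fun f hf => by simp [hf, hr f hf]⟩
  obtain ⟨L, hL, hLL, hLx⟩ := h.exists_sign hR
  obtain ⟨μ, hμx, hμE, hμF⟩ : ∃ μ : G → Vc (n + 1), μ x = Fin.cons 1 0 ∧
      (∀ y ∈ nb D x, μ y = Fin.cons 0 (ν y)) ∧ ∀ f ∈ far D x, μ f = Fin.cons 1 (L f) :=
    ⟨fun y => if y = x then Fin.cons 1 0 else if Commute x y then Fin.cons 0 (ν y) else Fin.cons 1 (L y),
      by simp, fun y hy => by simp [hy.2.1, h.nb_comm hy],
      fun f hf => by
        have : f ≠ x := fun e => hf.2 (e ▸ Commute.refl x)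
        simp [this, hf.2]⟩
  have cases3 : ∀ y ∈ D, y = x ∨ y ∈ nb D x ∨ y ∈ far D x := fun y hy => by
    by_cases e : y = x
    · exact Or.inl e
    by_cases hc : Commute x y
    · exact Or.inr (Or.inl ⟨hy, e, hc⟩)
    · exact Or.inr (Or.inr ⟨hy, hc⟩)
  have two : ∀ b : ZMod 3, -(1 * 1 : ZMod 3) + b = 0 ↔ b = 1 := by decide
  have qL : ∀ f ∈ far D x, Q (L f) = 0 := fun f hf => (hL f hf).1
  have nL : ∀ f ∈ far D x, L f ≠ 0 := fun f hf => (hL f hf).2.1
  have m1 : (1 : ZMod 3) ≠ -1 := by decide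
  have z1 : (0 : ZMod 3) ≠ -1 := by decide
  refine ⟨μ, fun a ha => ?_, fun a ha b hb e => ?_, fun v hv => ?_, fun a ha b hb => ?_⟩
  · rcases cases3 a ha with rfl | h1 | h1
    · rw [hμx, extQ_cons, QuadraticMap.map_zero]; rfl
    · rw [hμE a h1, extQ_cons, h.fr.val a h1, mul_zero, zero_add]
    · rw [hμF a h1, extQ_cons, qL a h1]; rfl
  · rcases cases3 a ha with ea | h1 | h1 <;> rcases cases3 b hb with eb | h2 | h2
    · rw [ea, eb]
    · rw [ea, hμx, hμE b h2] at e
      rcases cons_pm e with ⟨k, -⟩ | ⟨k, -⟩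
      · exact absurd k one_ne_zero
      · exact absurd k (by decide)
    · rw [ea, hμx, hμF b h2] at e
      rcases cons_pm e with ⟨-, k⟩ | ⟨k, -⟩
      · exact absurd k.symm (nL b h2)
      · exact absurd k m1
    · rw [eb, hμx, hμE a h1] at e
      rcases cons_pm e with ⟨k, -⟩ | ⟨k, -⟩
      · exact absurd k zero_ne_one
      · exact absurd k z1
    · rw [hμE a h1, hμE b h2] at e
      rcases cons_pm e with ⟨-, k⟩ | ⟨-, k⟩
      · exact h.fr.inj a h1 b h2 (Or.inl k)
      · exact h.fr.inj a h1 b h2 (Or.inr k)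
    · rw [hμE a h1, hμF b h2] at e
      rcases cons_pm e with ⟨k, -⟩ | ⟨k, -⟩
      · exact absurd k zero_ne_one
      · exact absurd k z1
    · rw [eb, hμx, hμF a h1] at e
      rcases cons_pm e with ⟨-, k⟩ | ⟨k, -⟩
      · exact absurd k (nL a h1)
      · exact absurd k m1
    · rw [hμF a h1, hμE b h2] at e
      rcases cons_pm e with ⟨k, -⟩ | ⟨k, -⟩
      · exact absurd k one_ne_zero
      · exact absurd k (by decide)
    · rw [hμF a h1, hμF b h2] at e
      rcases cons_pm e with ⟨-, k⟩ | ⟨k, -⟩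
      · rcases h.pair h1 h2 (hL a h1) (hL b h2) (Or.inl k.symm) with e' | e'
        · exact e'.symm
        · have h3 := hLx a h1
          rw [← e', ← k] at h3
          exfalso
          refine nL a h1 ?_
          funext i
          have h4 := congrFun h3 i
          simp only [Pi.neg_apply] at h4
          exact (by decide : ∀ c : ZMod 3, c = -c → c = 0) _ h4
      · exact absurd k m1
  · obtain ⟨t, w, rfl⟩ : ∃ t w, v = Fin.cons t w := ⟨v 0, Fin.tail v, (Fin.cons_self_tail v).symm⟩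
    rw [extQ_cons] at hv
    by_cases ht : t = 0
    · subst ht
      rw [mul_zero, zero_add] at hv
      obtain ⟨y, hy, e⟩ := h.fr.surj w hv
      refine ⟨y, hy.1, ?_⟩
      rw [hμE y hy]
      rcases e with e | e
      · exact Or.inl (by rw [e])
      · exact Or.inr (by rw [cons_neg, e, neg_zero])
    rw [f3_mul_self t ht, add_eq_left] at hv
    by_cases hw : w = 0
    · subst hw
      refine ⟨x, h.mem, ?_⟩
      rw [hμx]
      rcases f3_cases t ht with rfl | rfl
      · exact Pm.refl _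
      · exact Or.inr (by rw [cons_neg, neg_neg, neg_zero])
    obtain ⟨g, hg, hgs⟩ := h.exists_over (s := t • w) (by rw [qv_smul, hv, mul_zero]) (smul_ne_zero ht hw)
    have key : ∃ g ∈ far D x, L g = t • w := by
      rcases h.rad_pm hg hgs (hL g hg) with e | e
      · exact ⟨g, hg, e⟩
      · exact ⟨_, h.xfx_far hg, by rw [hLx g hg, e, neg_neg]⟩
    obtain ⟨g, hg, e⟩ := key
    refine ⟨g, hg.1, ?_⟩
    rw [hμF g hg, e]
    rcases f3_cases t ht with rfl | rfl
    · exact Or.inl (by rw [one_smul])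
    · exact Or.inr (by rw [cons_neg, neg_neg, neg_one_smul])
  · rcases cases3 a ha with ea | h1 | h1 <;> rcases cases3 b hb with eb | h2 | h2
    · rw [ea, eb, hμx, pol_cons, bp_zero_r]
      exact iff_of_false (by decide) fun k => k.1 rfl
    · rw [ea, hμx, hμE b h2, pol_cons, bp_comm, bp_zero_r, mul_zero, neg_zero, add_zero]
      exact iff_of_true rfl ⟨h2.2.1.symm, h.nb_comm h2⟩
    · rw [ea, hμx, hμF b h2, pol_cons, bp_comm, bp_zero_r]
      exact iff_of_false (by decide) fun k => h2.2 k.2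
    · rw [eb, hμx, hμE a h1, pol_cons, bp_zero_r, zero_mul, neg_zero, add_zero]
      exact iff_of_true rfl ⟨h1.2.1, (h.nb_comm h1).symm⟩
    · rw [hμE a h1, hμE b h2, pol_cons, zero_mul, neg_zero, zero_add]
      exact h.fr.comm a h1 b h2
    · rw [hμE a h1, hμF b h2, pol_cons, zero_mul, neg_zero, zero_add, ← h.mem_com_iff h2 (hL b h2) h1]
      exact ⟨fun k => ⟨fun e => h2.2 (e ▸ h.nb_comm h1), k.symm⟩, fun k => k.2.symm⟩
    · rw [eb, hμx, hμF a h1, pol_cons, bp_zero_r]
      exact iff_of_false (by decide) fun k => h1.2 k.2.symm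
    · rw [hμF a h1, hμE b h2, pol_cons, mul_zero, neg_zero, zero_add, bp_comm,
        ← h.mem_com_iff h1 (hL a h1) h2]
      exact ⟨fun k => ⟨fun e => h1.2 (e ▸ h.nb_comm h2), k⟩, fun k => k.2⟩
    · rw [hμF a h1, hμF b h2, pol_cons, two]
      exact hLL a h1 b h2

/-- One step up from the points of value one. -/
theorem row_o3 (hD : Std D) (hx : x ∈ D) (_hB : Below.{u} D.ncard) (hn : 5 ≤ n)
    (Q : QuadraticForm (ZMod 3) (Vc n)) (hQ : (QuadraticMap.polarBilin Q).Nondegenerate)
    (hE : GIso (nb D x) (o3R Q)) : Types D := by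
  obtain ⟨ν, hν⟩ := exists_fr hE
  obtain ⟨μ, hμ⟩ := exists_label ⟨hD, hx, hn, hQ, hν⟩
  exact .o3 (n + 1) (by omega) (extQ Q) (extQ_nd hQ) hμ.giso

end Cfsg.Agent.Fischer.OThree
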