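import Cfsg.Agent.Lib.Fischer.OThree.Local

/-!
Fischer's theorem, the row of the orthogonal groups over the field with three elements: the outer
members lie in pairs over the singular points, and two of them commute only over points that are
not orthogonal.
-/

set_option autoImplicit false
set_option linter.unusedSectionVars false

namespace Cfsg.Agent.Fischer.OThree

open Cfsg.Agent.ThreeTransp
open Cfsg.Agent.ThreeTransp.Factor (nb Hd mem_Hd Hd_commute)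
open Cfsg.Agent.ThreeTransp.Cover (conj_nb mem_nb_symm)
open Cfsg.Agent.GenA.Tower (far)
open Cfsg.Agent.Forms.QuadStd (reflect)
open Cfsg.Agent.Forms.Reflections (act)

universe u

variable {G : Type u} [Group G] [Finite G] {n : ℕ}
variable {Q : QuadraticForm (ZMod 3) (Vc n)} {D : Set G} {x : G} {ν : G → Vc n}

local notation "B" => QuadraticMap.polar Q

/-- The common set of `x` and `f` is orthogonal to the singular point `r`. -/
def Rad (D : Set G) (x : G) (Q : QuadraticForm (ZMod 3) (Vc n)) (ν : G → Vc n) (r : Vc n) (f : G) : Prop :=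
  Q r = 0 ∧ r ≠ 0 ∧ ∀ a ∈ com D x f, IsRad D x Q ν r f a

theorem conj_conj_self {a b : G} (ha : a * a = 1) : a * (a * b * a⁻¹) * a⁻¹ = b := by
  rw [show a * (a * b * a⁻¹) * a⁻¹ = (a * a) * b * (a * a)⁻¹ by group, ha, one_mul, inv_one, mul_one]

namespace Setup

variable (h : Setup D x Q ν)
include h

theorem braid {a b : G} (ha : a ∈ D) (hb : b ∈ D) (hab : ¬ Commute a b) :
    a * b * a⁻¹ = b * a * b⁻¹ := by
  rw [Classes.inv h.std.grp ha, Classes.inv h.std.grp hb]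
  exact Basic.braid h.std.grp.1 ha hb hab

/-- Three members of a symmetric group of degree four. -/
theorem quad {p q f : G} (hp : p ∈ D) (hq : q ∈ D) (hf : f ∈ D) (hpq : Commute p q)
    (hpf : ¬ Commute f p) (hqf : ¬ Commute f q) : Commute f (p * (q * f * q⁻¹) * p⁻¹) := by
  obtain ⟨y, hy⟩ : ∃ y, y = p * (q * f * q⁻¹) * p⁻¹ := ⟨_, rfl⟩
  rw [← hy]
  have h1 : y = p * (f * q * f⁻¹) * p⁻¹ := by rw [hy, h.braid hf hq hqf]
  have h2 : f * y * f⁻¹ = y := by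
    conv_lhs =>
      rw [h1, show f * (p * (f * q * f⁻¹) * p⁻¹) * f⁻¹ =
        (f * p * f) * q * (f⁻¹ * p⁻¹ * f⁻¹) by group]
    have e1 : f * p * f = p * f * p := Basic.braid h.std.grp.1 hf hp hpf
    have e2 : f⁻¹ * p⁻¹ * f⁻¹ = p⁻¹ * f⁻¹ * p⁻¹ := by
      have := congrArg (·⁻¹) e1
      simpa [mul_assoc] using this
    rw [e1, e2, h1]
    have hpqp : p * q * p⁻¹ = q := RankThree.conj_self_of_commute hpq.symm
    calc p * f * p * q * (p⁻¹ * f⁻¹ * p⁻¹) = p * f * (p * q * p⁻¹) * f⁻¹ * p⁻¹ := by group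
      _ = p * (f * q * f⁻¹) * p⁻¹ := by rw [hpqp]; group
  exact mul_inv_eq_iff_eq_mul.1 h2

theorem sq_x : x * x = 1 := Classes.sq h.std.grp h.mem

/-- A member cannot commute with both members over an outer point. -/
theorem not_both {f g : G} (hf : f ∈ far D x) (hg : g ∈ far D x) (h1 : Commute f g)
    (h2 : Commute f (x * g * x⁻¹)) : False := by
  refine hf.2 ?_
  have h3 : x = g * (x * g * x⁻¹) * g⁻¹ := by
    rw [h.braid h.mem hg.1 hg.2, conj_conj_self (Classes.sq h.std.grp hg.1)]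
  rw [h3]
  exact ((h1.mul_right h2).mul_right h1.inv_right).symm

theorem mem_com {f z : G} (hf : f ∈ far D x) (hz : z ∈ nb D x) : z ∈ com D x f ↔ Commute f z := by
  refine ⟨fun k => k.2.2.2, fun k => ⟨hz, hz.1, fun e => hf.2 ?_, k⟩⟩
  rw [← e]; exact h.nb_comm hz

theorem conj_far {f z : G} (hf : f ∈ far D x) (hz : z ∈ nb D x) : z * f * z⁻¹ ∈ far D x :=
  h.far_conj (h.hd_fix (mem_Hd hz)) hf

theorem rad_pm {r s : Vc n} {f : G} (hf : f ∈ far D x) (h1 : Rad D x Q ν r f) (h2 : Rad D x Q ν s f) :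
    Pm s r := by
  obtain ⟨a, ha⟩ := h.std.com_nonempty h.mem hf.1 hf.2
  exact h.rad_unique ha.1 (h1.2.2 a ha) (h2.2.2 a ha)

theorem exists_Rad {f : G} (hf : f ∈ far D x) : ∃ r, Rad D x Q ν r f := h.exists_rad hf

theorem rad_perp {r : Vc n} {f a : G} (h1 : Rad D x Q ν r f) (ha : a ∈ com D x f) : B (ν a) r = 0 :=
  (h1.2.2 a ha).2.2.1

/-- Translations along `r` preserve the common set. -/
theorem translate {r : Vc n} {f b c : G} (h1 : Rad D x Q ν r f) (hb : b ∈ com D x f) (hc : c ∈ nb D x)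
    {t : ZMod 3} (e : Pm (ν c) (ν b + t • r)) : c ∈ com D x f := by
  obtain ⟨v, hv, hbv, hrv⟩ := exists_val h.dim h.nd (a := ν b) (b := r)
    (by rw [h.fr.val b hb.1]; exact one_ne_zero) 1
  obtain ⟨y, hy, ey⟩ := h.fr.surj v hv
  have hyb : B (ν y) (ν b) = 0 := (ey.bp_l _).2 (by rw [bp_comm]; exact hbv)
  have hyr : B (ν y) r = 0 := (ey.bp_l _).2 (by rw [bp_comm]; exact hrv)
  have hyA := ((h1.2.2 b hb).2.2.2 y hy hyb).2 hyr
  refine ((h1.2.2 y hyA).2.2.2 c hc ?_).2 ?_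
  · rw [e.bp_l, bp_add_l, bp_smul_l, bp_comm (ν b), hyb, bp_comm r, hyr]; ring
  · rw [e.bp_l, bp_add_l, bp_smul_l, h.rad_perp h1 hb, bp_self, h1.1]; ring

theorem rad_xfx {r : Vc n} {f : G} (h1 : Rad D x Q ν r f) : Rad D x Q ν r (x * f * x⁻¹) := by
  unfold Rad IsRad at *
  rw [h.com_xfx f]
  exact h1

theorem rad_step {r : Vc n} {f z : G} (hz : z ∈ nb D x) (h1 : Rad D x Q ν r f) :
    Rad D x Q ν (rf Q (ν z) r) (z * f * z⁻¹) := by
  have hne : Q (ν z) ≠ 0 := by rw [h.fr.val z hz]; exact one_ne_zero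
  have hzH := mem_Hd hz
  have hσ : ∀ b ∈ nb D x, Pm (ν (z * b * z⁻¹)) (act (reflect Q (ν z)) (ν b)) := fun b hb => by
    rw [act_rf hne]; exact h.fr.third h.conjE h.dim h.nd hz hb
  have hfix := h.hd_fix hzH
  have hz2 := Classes.sq h.std.grp hz.1
  have key : ∀ a' ∈ com D x (z * f * z⁻¹), ∃ a ∈ com D x f, z * a * z⁻¹ = a' := fun a' ha' => by
    refine ⟨z * a' * z⁻¹, ?_, conj_conj_self hz2⟩
    have := h.com_conj hfix ha'
    rwa [conj_conj_self hz2] at this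
  refine ⟨?_, ?_, fun a' ha' => ?_⟩
  · have := bp_rf hne r r
    rw [bp_self, bp_self, h1.1, neg_zero, neg_eq_zero] at this
    exact this
  · intro e
    obtain ⟨w, hw, hrw⟩ := exists_one_far h.nd h1.1 h1.2.1
    have := bp_rf hne r w
    rw [e, bp_comm, bp_zero_r] at this
    exact hrw this.symm
  · obtain ⟨a, ha, rfl⟩ := key a' ha'
    have := h.rad_conj hzH _ hσ ha.1 (h1.2.2 a ha)
    rwa [act_rf hne] at this

theorem pair_at {r s : Vc n} {f g a : G} (hf : f ∈ far D x) (hg : g ∈ far D x) (h1 : Rad D x Q ν r f)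
    (h2 : Rad D x Q ν s g) (e : Pm s r) (ha : a ∈ com D x f) (ha' : a ∈ com D x g) :
    g = f ∨ g = x * f * x⁻¹ :=
  h.pair_of_rad hf hg ha ha' (h1.2.2 a ha) ((h2.2.2 a ha').pm e.symm)

/-- The common set is everything orthogonal to `r`. -/
theorem full {r : Vc n} {f z : G} (hf : f ∈ far D x) (h1 : Rad D x Q ν r f) (hz : z ∈ nb D x)
    (hzr : B (ν z) r = 0) : z ∈ com D x f := by
  rw [h.mem_com hf hz]
  by_contra hfz
  have hz1 : rf Q (ν z) r = r := rf_fix hzr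
  obtain ⟨f1, hf1⟩ : ∃ g, g = z * f * z⁻¹ := ⟨_, rfl⟩
  have far1 : f1 ∈ far D x := hf1 ▸ h.conj_far hf hz
  have rad1 : Rad D x Q ν r f1 := by rw [hf1]; have := h.rad_step hz h1; rwa [hz1] at this
  obtain ⟨f2, hf2⟩ : ∃ g, g = x * f1 * x⁻¹ := ⟨_, rfl⟩
  have far2 : f2 ∈ far D x := hf2 ▸ h.xfx_far far1
  have rad2 : Rad D x Q ν r f2 := hf2 ▸ h.rad_xfx rad1
  have com2 : com D x f2 = com D x f1 := hf2 ▸ h.com_xfx f1
  have hff2 : Commute f f2 := by
    rw [hf2, hf1]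
    exact h.quad h.mem hz.1 hf.1 (h.nb_comm hz) (fun k => hf.2 k.symm) hfz
  have out : ∀ a ∈ com D x f, a ∉ com D x f1 := fun a ha ha' => by
    rcases h.pair_at hf far1 h1 rad1 (Pm.refl r) ha ha' with e | e
    · exact hfz (mul_inv_eq_iff_eq_mul.1 (hf1.symm.trans e)).symm
    · rw [hf1, h.braid hz.1 hf.1 fun k => hfz k.symm, h.braid h.mem hf.1 hf.2] at e
      exact hz.2.1 (conj_injective e)
  obtain ⟨a, ha⟩ := h.std.com_nonempty h.mem hf.1 hf.2
  have har := h.rad_perp h1 ha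
  obtain ⟨a', ha'E, ea'⟩ := h.fr.surj (ν a + r) (by rw [qv_add, h.fr.val a ha.1, h1.1, har]; ring)
  have ha' : a' ∈ com D x f := h.translate h1 ha ha'E (t := 1) (by rwa [one_smul])
  have hne : a ≠ a' := by
    rintro rfl
    rcases ea' with e | e
    · exact h1.2.1 (left_eq_add.1 e)
    · have h3 := congrArg (B (ν a)) e
      rw [bp_neg_r, bp_add_r, har, add_zero, bp_self, h.fr.val a ha.1] at h3
      exact (by decide : (-1 : ZMod 3) ≠ - -1) h3
  have hna : ∀ c ∈ com D x f, ¬ Commute c f2 := fun c hc k => out c hc (by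
    rw [← com2, h.mem_com far2 hc.1]; exact k.symm)
  obtain ⟨b, hb⟩ := h.std.com_nonempty h.mem far2.1 far2.2
  have hbr := h.rad_perp rad2 hb
  obtain ⟨t, ht⟩ : ∃ t, t = B (ν a) (ν b) := ⟨_, rfl⟩
  obtain ⟨b', hb'E, eb'⟩ := h.fr.surj (ν b + t • r)
    (by rw [qv_add_smul, h.fr.val b hb.1, h1.1, hbr]; ring)
  have hb' : b' ∈ com D x f2 := h.translate rad2 hb hb'E eb'
  have eq1 : a * b * a⁻¹ = a' * b' * a'⁻¹ := by
    refine h.fr.inj _ (h.conjE a ha.1 b hb.1) _ (h.conjE a' ha'E b' hb'E) ?_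
    refine (h.fr.third h.conjE h.dim h.nd ha.1 hb.1).trans
      (Pm.trans ?_ (h.fr.third h.conjE h.dim h.nd ha'E hb'E).symm)
    rw [ea'.rf, rf, rf, h.fr.val a ha.1, qv_add, h.fr.val a ha.1, h1.1, har, add_zero, add_zero, one_mul, one_mul]
    rcases eb' with e | e <;> rw [e] <;>
      simp only [bp_neg_r, bp_add_l, bp_add_r, bp_smul_r, har, bp_self r, h1.1, bp_comm r (ν b), hbr, ← ht,
        neg_zero, mul_zero, add_zero]
    · exact Or.inl (by module)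
    · exact Or.inr (by module)
  have step : ∀ c ∈ com D x f, Commute f (c * f2 * c⁻¹) ∧ c * f2 * c⁻¹ ∈ far D x ∧
      Rad D x Q ν r (c * f2 * c⁻¹) := fun c hc => by
    refine ⟨?_, h.conj_far far2 hc.1, ?_⟩
    · have := hff2.map (MulAut.conj c).toMonoidHom
      simpa [RankThree.conj_self_of_commute hc.2.2.2] using this
    · have := h.rad_step hc.1 rad2
      rwa [rf_fix (h.rad_perp h1 hc)] at this
  obtain ⟨y1, y2, y3⟩ := step a ha
  obtain ⟨z1, z2, z3⟩ := step a' ha'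
  have m1 : a * b * a⁻¹ ∈ com D x (a * f2 * a⁻¹) := h.com_conj (h.hd_fix (mem_Hd ha.1)) hb
  have m2 : a * b * a⁻¹ ∈ com D x (a' * f2 * a'⁻¹) := eq1 ▸ h.com_conj (h.hd_fix (mem_Hd ha'E)) hb'
  rcases h.pair_at y2 z2 y3 z3 (Pm.refl r) m1 m2 with e | e
  · rw [h.braid ha'E.1 far2.1 (hna a' ha'), h.braid ha.1.1 far2.1 (hna a ha)] at e
    exact hne (conj_injective e).symm
  · exact h.not_both hf y2 y1 (e ▸ z1)

theorem mem_com_iff {r : Vc n} {f z : G} (hf : f ∈ far D x) (h1 : Rad D x Q ν r f) (hz : z ∈ nb D x) :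
    Commute f z ↔ B (ν z) r = 0 :=
  ⟨fun k => h.rad_perp h1 ((h.mem_com hf hz).2 k), fun k => (h.full hf h1 hz k).2.2.2⟩

/-- Two members over one point differ by `x`. -/
theorem pair {r s : Vc n} {f g : G} (hf : f ∈ far D x) (hg : g ∈ far D x) (h1 : Rad D x Q ν r f)
    (h2 : Rad D x Q ν s g) (e : Pm s r) : g = f ∨ g = x * f * x⁻¹ := by
  obtain ⟨a, ha⟩ := h.std.com_nonempty h.mem hf.1 hf.2
  refine h.pair_at hf hg h1 h2 e ha (h.full hg h2 ha.1 ?_)
  rw [e.bp_r]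
  exact h.rad_perp h1 ha

/-- The outer members commuting with an outer member. -/
theorem outer_nb {f g : G} (hf : f ∈ far D x) (hg : g ∈ far D x) (hne : f ≠ g) (hc : Commute f g) :
    ∃ z ∈ nb D x, ¬ Commute f z ∧ g = x * (z * f * z⁻¹) * x⁻¹ := by
  classical
  obtain ⟨φ, hφ⟩ : ∃ φ : G → G, φ = fun z => x * (z * f * z⁻¹) * x⁻¹ := ⟨_, rfl⟩
  obtain ⟨S, hS⟩ : ∃ S : Set G, S = nb D x \ com D x f := ⟨_, rfl⟩
  have hzS : ∀ z ∈ S, z ∈ nb D x ∧ ¬ Commute f z := fun z hz => by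
    rw [hS] at hz
    exact ⟨hz.1, fun k => hz.2 ((h.mem_com hf hz.1).2 k)⟩
  have him : φ '' S ⊆ nb D f \ com D x f := by
    rintro _ ⟨z, hz, rfl⟩
    obtain ⟨hz1, hz2⟩ := hzS z hz
    rw [hφ]
    refine ⟨⟨h.std.grp.2.1 x _ (h.std.grp.2.1 z f hf.1), fun e => hz1.2.1 ?_, ?_⟩,
      fun k => (h.xfx_far (h.conj_far hf hz1)).2 (h.nb_comm k.1)⟩
    · have h3 : z * f * z⁻¹ = x * f * x⁻¹ := by
        have := congrArg (fun w => x * w * x⁻¹) e
        simpa only [conj_conj_self h.sq_x] using this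
      rw [h.braid hz1.1 hf.1 fun k => hz2 k.symm, h.braid h.mem hf.1 hf.2] at h3
      exact conj_injective h3
    · exact h.quad h.mem hz1.1 hf.1 (h.nb_comm hz1) (fun k => hf.2 k.symm) hz2
  have hinj : Set.InjOn φ S := fun p hp q hq e => by
    obtain ⟨hp1, hp2⟩ := hzS p hp
    obtain ⟨hq1, hq2⟩ := hzS q hq
    rw [hφ] at e
    have h3 := conj_injective e
    rw [h.braid hp1.1 hf.1 fun k => hp2 k.symm, h.braid hq1.1 hf.1 fun k => hq2 k.symm] at h3
    exact conj_injective h3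
  have hcard : (nb D f \ com D x f).ncard ≤ (φ '' S).ncard := by
    rw [Set.ncard_image_of_injOn hinj, hS,
      Set.ncard_diff (s := com D x f) (t := nb D x) Set.inter_subset_left,
      Set.ncard_diff (s := com D x f) (t := nb D f) Set.inter_subset_right,
      h.std.nb_const hf.1 h.mem]
  have hg' : g ∈ nb D f \ com D x f :=
    ⟨⟨hg.1, Ne.symm hne, hc⟩, fun k => hg.2 (h.nb_comm k.1)⟩
  rw [← Set.eq_of_subset_of_ncard_le him hcard] at hg'
  obtain ⟨z, hz, rfl⟩ := hg'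
  exact ⟨z, (hzS z hz).1, (hzS z hz).2, by rw [hφ]⟩

theorem rf_self_bp {r : Vc n} {z : G} (hz : z ∈ nb D x) (hr : Q r = 0) (h0 : B (ν z) r ≠ 0) :
    B r (rf Q (ν z) r) = -1 := by
  rw [rf, h.fr.val z hz, one_mul, bp_sub_r, bp_smul_r, bp_self, hr, bp_comm r, f3_mul_self _ h0]
  decide

/-- Commuting outer members have non-orthogonal points. -/
theorem comm_bp {r s : Vc n} {f g : G} (hf : f ∈ far D x) (hg : g ∈ far D x) (h1 : Rad D x Q ν r f)
    (h2 : Rad D x Q ν s g) (hne : f ≠ g) (hc : Commute f g) : B r s ≠ 0 := by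
  obtain ⟨z, hz, hfz, rfl⟩ := h.outer_nb hf hg hne hc
  have h0 : B (ν z) r ≠ 0 := fun k => hfz ((h.mem_com_iff hf h1 hz).2 k)
  have e := h.rad_pm hg (h.rad_xfx (h.rad_step hz h1)) h2
  rw [Ne, e.bp_r, h.rf_self_bp hz h1.1 h0]
  decide

/-- Non-orthogonal singular points are exchanged by a member. -/
theorem exists_swap {r s : Vc n} (hr : Q r = 0) (hs : Q s = 0) (hrs : B r s ≠ 0) :
    ∃ z ∈ nb D x, Pm (ν z) (r + B r s • s) ∧ Pm (rf Q (ν z) r) s ∧ B (ν z) r ≠ 0 := by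
  have hq : Q (r + B r s • s) = 1 := by rw [qv_add_smul, hr, hs, f3_mul_self _ hrs]; ring
  obtain ⟨z, hz, e⟩ := h.fr.surj _ hq
  have h0 : B (r + B r s • s) r = 1 := by
    rw [bp_add_l, bp_smul_l, bp_self, hr, bp_comm s r, f3_mul_self _ hrs, neg_zero, zero_add]
  refine ⟨z, hz, e, ?_, fun k => one_ne_zero (h0.symm.trans ((e.bp_l _).1 k))⟩
  rw [e.rf, rf, hq, h0, one_mul, one_smul, sub_add_cancel_left]
  exact (Pm.neg _).trans (pm_smul hrs s)

/-- Over a non-orthogonal point exactly one member commutes. -/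
theorem one_comm {r s : Vc n} {f g : G} (hf : f ∈ far D x) (hg : g ∈ far D x) (h1 : Rad D x Q ν r f)
    (h2 : Rad D x Q ν s g) (hrs : B r s ≠ 0) : Commute f g ↔ ¬ Commute f (x * g * x⁻¹) := by
  refine ⟨fun k k' => h.not_both hf hg k k', fun k => ?_⟩
  obtain ⟨z, hz, -, e, h0⟩ := h.exists_swap h1.1 h2.1 hrs
  have hfz : ¬ Commute f z := fun k' => h0 ((h.mem_com_iff hf h1 hz).1 k')
  have hy := h.quad h.mem hz.1 hf.1 (h.nb_comm hz) (fun k' => hf.2 k'.symm) hfz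
  rcases h.pair hg (h.xfx_far (h.conj_far hf hz)) h2 (h.rad_xfx (h.rad_step hz h1)) e with e' | e'
  · exact e' ▸ hy
  · exact absurd (e' ▸ hy) k

/-- Every singular point has a member over it. -/
theorem exists_over {s : Vc n} (hs : Q s = 0) (hs0 : s ≠ 0) :
    ∃ g ∈ far D x, Rad D x Q ν s g := by
  have step : ∀ r t : Vc n, B r t ≠ 0 → Q t = 0 →
      (∃ g ∈ far D x, Rad D x Q ν r g) → ∃ g ∈ far D x, Rad D x Q ν t g := by
    rintro r t hrt ht ⟨g, hg, h1⟩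
    obtain ⟨z, hz, -, e, -⟩ := h.exists_swap h1.1 ht hrt
    have h2 := h.rad_step hz h1
    refine ⟨_, h.conj_far hg hz, ht, ?_, fun a ha => (h2.2.2 a ha).pm e.symm⟩
    intro h0
    rw [h0, bp_zero_r] at hrt
    exact hrt rfl
  obtain ⟨c, hc, hxc⟩ := h.std.exists_noncomm h.mem
  have hfar : c ∈ far D x := ⟨hc, hxc⟩
  obtain ⟨r, hr⟩ := h.exists_Rad hfar
  obtain ⟨w, hw, hw1, hw2⟩ := exists_mid h.dim h.nd hr.1 hr.2.1 hs hs0
  exact step w s (by rwa [bp_comm]) hs (step r w hw1 hw ⟨c, hfar, hr⟩)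

/-- The triangle rule. -/
theorem triangle {r₁ r₂ r₃ : Vc n} {f₁ f₂ f₃ : G} (hf₁ : f₁ ∈ far D x) (hf₂ : f₂ ∈ far D x)
    (hf₃ : f₃ ∈ far D x) (h1 : Rad D x Q ν r₁ f₁) (h2 : Rad D x Q ν r₂ f₂) (h3 : Rad D x Q ν r₃ f₃)
    (b12 : B r₁ r₂ = 1) (b13 : B r₁ r₃ = 1) (b23 : B r₂ r₃ ≠ 0) (c12 : Commute f₁ f₂)
    (c13 : Commute f₁ f₃) : Commute f₂ f₃ ↔ B r₂ r₃ = 1 := by
  obtain ⟨p, hp, ep, e2, h2'⟩ := h.exists_swap h1.1 h2.1 (by rw [b12]; exact one_ne_zero)
  obtain ⟨q, hq, eq, e3, h3'⟩ := h.exists_swap h1.1 h3.1 (by rw [b13]; exact one_ne_zero)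
  rw [b12, one_smul] at ep
  rw [b13, one_smul] at eq
  have ovr : ∀ {g : G} {t : Vc n} {z : G}, g ∈ far D x → Rad D x Q ν t g → z ∈ nb D x →
      B (ν z) r₁ ≠ 0 → Pm (rf Q (ν z) r₁) t → Commute f₁ g → g = x * (z * f₁ * z⁻¹) * x⁻¹ := by
    intro g t z hg hgt hz h0 e hc
    have hfz : ¬ Commute f₁ z := fun k => h0 ((h.mem_com_iff hf₁ h1 hz).1 k)
    have hy := h.quad h.mem hz.1 hf₁.1 (h.nb_comm hz) (fun k => hf₁.2 k.symm) hfz
    rcases h.pair (h.xfx_far (h.conj_far hf₁ hz)) hg (h.rad_xfx (h.rad_step hz h1)) hgt e.symm with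
      e' | e'
    · exact e'
    · exact (h.not_both hf₁ (h.xfx_far (h.conj_far hf₁ hz)) hy (e' ▸ hc)).elim
  rw [ovr hf₂ h2 hp h2' e2 c12, ovr hf₃ h3 hq h3' e3 c13, Basic.commute_conj]
  have hpf : ¬ Commute f₁ p := fun k => h2' ((h.mem_com_iff hf₁ h1 hp).1 k)
  have hqf : ¬ Commute f₁ q := fun k => h3' ((h.mem_com_iff hf₁ h1 hq).1 k)
  have hpq : B (r₁ + r₂) (r₁ + r₃) = B r₂ r₃ - 1 := by
    rw [bp_add_l, bp_add_r, bp_add_r, bp_self, h1.1, b13, bp_comm r₂ r₁, b12]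
    exact (by decide : ∀ b : ZMod 3, -(0 : ZMod 3) + 1 + (1 + b) = b - 1) _
  rcases f3_cases _ b23 with hb | hb
  · have hp0 : B (ν p) (ν q) = 0 := by
      rw [ep.bp_l, eq.bp_r, hpq, hb, sub_self]
    obtain ⟨-, hc⟩ := (h.fr.comm p hp q hq).1 hp0
    refine iff_of_true ?_ hb
    have k := (h.quad hp.1 hq.1 hf₁.1 hc hpf hqf).map (MulAut.conj p).toMonoidHom
    simp only [MulEquiv.coe_toMonoidHom, MulAut.conj_apply] at k
    rwa [conj_conj_self (Classes.sq h.std.grp hp.1)] at k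
  · refine iff_of_false (fun k => ?_) (by rw [hb]; decide)
    have hfar := h.conj_far hf₁ hq
    have hA : Commute (q * f₁ * q⁻¹) p := by
      rw [h.mem_com_iff hfar (h.rad_step hq h1) hp, e3.bp_r, ep.bp_l, bp_add_l, b13, hb]
      decide
    rw [← RankThree.conj_self_of_commute hA, Basic.commute_conj] at k
    refine hqf ?_
    rw [h.braid hq.1 hf₁.1 fun k' => hqf k'.symm] at k
    have k2 := k.map (MulAut.conj f₁⁻¹).toMonoidHom
    simpa [mul_assoc] using k2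

end Setup

end Cfsg.Agent.Fischer.OThree
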