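import Cfsg.Agent.Lib.Fischer.OThree.Outer

/-!
Fischer's theorem, the row of the orthogonal groups over the field with three elements: the pairs of
outer members are told apart by the sign of a singular vector.
-/

set_option autoImplicit false
set_option linter.unusedSectionVars false

namespace Cfsg.Agent.Fischer.OThree

open Cfsg.Agent.ThreeTransp
open Cfsg.Agent.ThreeTransp.Factor (nb)
open Cfsg.Agent.GenA.Tower (far)

universe u

variable {G : Type u} [Group G] [Finite G] {n : ℕ}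
variable {Q : QuadraticForm (ZMod 3) (Vc n)} {D : Set G} {x : G} {ν : G → Vc n}

local notation "B" => QuadraticMap.polar Q

open scoped _root_.Classical in
/-- One for commuting, minus one otherwise. -/
noncomputable def ep (a b : G) : ZMod 3 := if Commute a b then 1 else -1

/-- The sign of a pair of members with given vectors. -/
noncomputable def cp (Q : QuadraticForm (ZMod 3) (Vc n)) (R : G → Vc n) (a b : G) : ZMod 3 :=
  ep a b * QuadraticMap.polar Q (R a) (R b)

theorem ep_of {a b : G} (h : Commute a b) : ep a b = 1 := by simp [ep, h]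

theorem ep_of_not {a b : G} (h : ¬ Commute a b) : ep a b = -1 := by simp [ep, h]

theorem ep_eq_one {a b : G} : ep a b = 1 ↔ Commute a b := by
  refine ⟨fun h => ?_, ep_of⟩
  by_contra k
  rw [ep_of_not k] at h
  exact absurd h (by decide)

theorem ep_comm (a b : G) : ep a b = ep b a := by
  by_cases h : Commute a b
  · rw [ep_of h, ep_of h.symm]
  · rw [ep_of_not h, ep_of_not fun k => h k.symm]

theorem ep_ne (a b : G) : ep a b ≠ 0 := by
  by_cases h : Commute a b
  · rw [ep_of h]; exact one_ne_zero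
  · rw [ep_of_not h]; decide

theorem cp_comm (R : G → Vc n) (a b : G) : cp Q R a b = cp Q R b a := by
  rw [cp, cp, ep_comm, bp_comm]

namespace Setup

variable (h : Setup D x Q ν) {R : G → Vc n} (hR : ∀ f ∈ far D x, Rad D x Q ν (R f) f)
include h hR

theorem cp_ne {f g : G} (hb : B (R f) (R g) ≠ 0) : cp Q R f g ≠ 0 := mul_ne_zero (ep_ne f g) hb

theorem ep_flip {f g : G} (hf : f ∈ far D x) (hg : g ∈ far D x) (hb : B (R f) (R g) ≠ 0) :
    ep f (x * g * x⁻¹) = -ep f g := by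
  have := h.one_comm hf hg (hR f hf) (hR g hg) hb
  by_cases k : Commute f g
  · rw [ep_of k, ep_of_not (this.1 k)]
  · rw [ep_of_not k, neg_neg, ep_of (by by_contra k'; exact k (this.2 k'))]

/-- Some member over the point of `g` commutes with `f`. -/
theorem choose_comm {f g : G} (hf : f ∈ far D x) (hg : g ∈ far D x) (hb : B (R f) (R g) ≠ 0) :
    ∃ g' ∈ far D x, Rad D x Q ν (R g) g' ∧ Commute f g' ∧
      ∀ p ∈ far D x, B (R p) (R g) ≠ 0 → ep p g' = ep f g * ep p g := by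
  by_cases k : Commute f g
  · exact ⟨g, hg, hR g hg, k, fun p _ _ => by rw [ep_of k, one_mul]⟩
  · refine ⟨_, h.xfx_far hg, h.rad_xfx (hR g hg), ?_, fun p hp hpb => ?_⟩
    · rw [← ep_eq_one, h.ep_flip hR hf hg hb, ep_of_not k, neg_neg]
    · rw [h.ep_flip hR hp hg hpb, ep_of_not k, neg_one_mul]

theorem cp_triangle {f₁ f₂ f₃ : G} (hf₁ : f₁ ∈ far D x) (hf₂ : f₂ ∈ far D x) (hf₃ : f₃ ∈ far D x)
    (b12 : B (R f₁) (R f₂) ≠ 0) (b13 : B (R f₁) (R f₃) ≠ 0) (b23 : B (R f₂) (R f₃) ≠ 0) :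
    cp Q R f₁ f₂ * cp Q R f₁ f₃ * cp Q R f₂ f₃ = 1 := by
  obtain ⟨g₂, hg₂, r2, c2, e2⟩ := h.choose_comm hR hf₁ hf₂ b12
  obtain ⟨g₃, hg₃, r3, c3, e3⟩ := h.choose_comm hR hf₁ hf₃ b13
  have scal : ∀ {f : G} {v : Vc n} {t : ZMod 3}, t ≠ 0 → Rad D x Q ν v f → Rad D x Q ν (t • v) f := by
    intro f v t ht hv
    refine ⟨by rw [qv_smul, hv.1, mul_zero], smul_ne_zero ht hv.2.1, fun a ha => ?_⟩
    exact (hv.2.2 a ha).pm (pm_smul ht v)
  have key := h.triangle hf₁ hg₂ hg₃ (hR f₁ hf₁) (scal b12 r2) (scal b13 r3)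
    (by rw [bp_smul_r, f3_mul_self _ b12]) (by rw [bp_smul_r, f3_mul_self _ b13])
    (by rw [bp_smul_l, bp_smul_r]; exact mul_ne_zero b12 (mul_ne_zero b13 b23)) c2 c3
  rw [← ep_eq_one, bp_smul_l, bp_smul_r] at key
  have h23 : ep g₂ g₃ = ep f₁ f₂ * ep f₁ f₃ * ep f₂ f₃ := by
    have hb : B (R g₂) (R f₃) ≠ 0 := by
      rw [Ne, (h.rad_pm hg₂ r2 (hR g₂ hg₂)).bp_l]; exact b23
    rw [e3 g₂ hg₂ hb, ep_comm g₂ f₃, e2 f₃ hf₃ (by rwa [bp_comm]), ep_comm f₃ f₂]
    ring
  rw [h23] at key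
  revert key b12 b13 b23
  simp only [cp]
  have h1 := ep_ne f₁ f₂
  have h2 := ep_ne f₁ f₃
  have h3 := ep_ne f₂ f₃
  revert h1 h2 h3
  generalize ep f₁ f₂ = a
  generalize ep f₁ f₃ = b
  generalize ep f₂ f₃ = c
  generalize B (R f₁) (R f₂) = p
  generalize B (R f₁) (R f₃) = q
  generalize B (R f₂) (R f₃) = w
  intro h1 h2 h3 hp hq hw k
  rcases f3_cases a h1 with rfl | rfl <;> rcases f3_cases b h2 with rfl | rfl <;>
    rcases f3_cases c h3 with rfl | rfl <;> rcases f3_cases p hp with rfl | rfl <;>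
    rcases f3_cases q hq with rfl | rfl <;> rcases f3_cases w hw with rfl | rfl <;>
    revert k <;> decide

/-- The sign does not depend on the intermediate member. -/
theorem cp_indep {f₀ f g g' : G} (hf₀ : f₀ ∈ far D x) (hf : f ∈ far D x) (hg : g ∈ far D x)
    (hg' : g' ∈ far D x) (b1 : B (R f₀) (R g) ≠ 0) (b2 : B (R g) (R f) ≠ 0) (b3 : B (R f₀) (R g') ≠ 0)
    (b4 : B (R g') (R f) ≠ 0) :
    cp Q R f₀ g * cp Q R g f = cp Q R f₀ g' * cp Q R g' f := by
  have adj : ∀ {p q : G}, p ∈ far D x → q ∈ far D x → B (R f₀) (R p) ≠ 0 → B (R p) (R f) ≠ 0 →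
      B (R f₀) (R q) ≠ 0 → B (R q) (R f) ≠ 0 → B (R p) (R q) ≠ 0 →
      cp Q R f₀ p * cp Q R p f = cp Q R f₀ q * cp Q R q f := by
    intro p q hp hq a1 a2 a3 a4 a5
    have t1 := h.cp_triangle hR hf₀ hp hq a1 a3 a5
    have t2 := h.cp_triangle hR hf hp hq (by rwa [bp_comm]) (by rwa [bp_comm]) a5
    rw [cp_comm R f p, cp_comm R f q] at t2
    revert t1 t2
    generalize cp Q R f₀ p = a
    generalize cp Q R p f = b
    generalize cp Q R f₀ q = c
    generalize cp Q R q f = d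
    generalize cp Q R p q = e
    revert a b c d e
    decide
  by_cases hgg : B (R g) (R g') = 0
  swap
  · exact adj hg hg' b1 b2 b3 b4 hgg
  by_cases h0 : B (R f₀) (R f) = 0
  swap
  · have t1 := h.cp_triangle hR hf₀ hf hg h0 b1 (by rwa [bp_comm])
    have t2 := h.cp_triangle hR hf₀ hf hg' h0 b3 (by rwa [bp_comm])
    rw [cp_comm R f g] at t1
    rw [cp_comm R f g'] at t2
    revert t1 t2
    generalize cp Q R f₀ g = a
    generalize cp Q R g f = b
    generalize cp Q R f₀ g' = c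
    generalize cp Q R g' f = d
    generalize cp Q R f₀ f = e
    revert a b c d e
    decide
  obtain ⟨q0, n0, -⟩ := hR f₀ hf₀
  obtain ⟨qf, nf, -⟩ := hR f hf
  obtain ⟨qg, ng, -⟩ := hR g hg
  obtain ⟨qg', ng', -⟩ := hR g' hg'
  by_cases hpm : Pm (R f) (R f₀)
  · -- `f` lies over the first point
    have main : ∃ k : ZMod 3, ∀ p ∈ far D x, B (R f₀) (R p) ≠ 0 → cp Q R p f = k * cp Q R p f₀ := by
      obtain ⟨σ, hσ⟩ : ∃ σ : ZMod 3, R f = σ • R f₀ := by
        rcases hpm with e | e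
        · exact ⟨1, by rw [e, one_smul]⟩
        · exact ⟨-1, by rw [e, neg_one_smul]⟩
      rcases h.pair hf₀ hf (hR f₀ hf₀) (hR f hf) hpm with e | e
      · exact ⟨σ, fun p _ _ => by rw [cp, cp, hσ, bp_smul_r, e]; ring⟩
      · refine ⟨-σ, fun p hp hb => ?_⟩
        have he : ep p f = -ep p f₀ := by rw [e, h.ep_flip hR hp hf₀ (by rwa [bp_comm])]
        rw [cp, cp, he, hσ, bp_smul_r]
        ring
    obtain ⟨k, hk⟩ := main
    have sq : ∀ {p : G}, B (R f₀) (R p) ≠ 0 → cp Q R f₀ p * cp Q R p f₀ = 1 := fun hb => by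
      rw [cp_comm R _ f₀]; exact f3_mul_self _ (h.cp_ne hR hb)
    rw [hk g hg b1, hk g' hg' b3, mul_left_comm, sq b1, mul_left_comm, sq b3]
  · obtain ⟨w, hw, w1, w2, w3, w4⟩ := exists_four h.dim h.nd (p := R f₀)
      (r := (B (R f) (B (R f₀) (R g) • R g)) • R f) (g := B (R f₀) (R g) • R g)
      (g' := B (R f₀) (R g') • R g') q0 (by rw [qv_smul, qf, mul_zero]) (by rw [qv_smul, qg, mul_zero])
      (by rw [qv_smul, qg', mul_zero]) n0 (by rw [bp_smul_r, h0, mul_zero])
      (fun k => hpm ((pm_smul (by rw [bp_smul_r, bp_comm (R f)]; exact mul_ne_zero b1 b2) (R f)).symm.trans k))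
      (by rw [bp_smul_l, bp_smul_r, hgg, mul_zero, mul_zero])
      (by rw [bp_smul_r, f3_mul_self _ b1])
      (by
        rw [bp_smul_l, f3_mul_self]
        rw [bp_smul_r, bp_comm (R f)]
        exact mul_ne_zero b1 b2)
      (by rw [bp_smul_r, f3_mul_self _ b3])
      (by
        rw [bp_smul_l, bp_smul_r, bp_smul_r, bp_comm (R f), bp_comm (R f)]
        exact mul_ne_zero (mul_ne_zero b1 b2) (mul_ne_zero b3 b4))
    rw [bp_smul_l, mul_ne_zero_iff] at w2 w3 w4
    obtain ⟨p, hp, hpw⟩ := h.exists_over hw fun e => w1 (by rw [e, bp_zero_r])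
    have e := h.rad_pm hp hpw (hR p hp)
    have a1 : B (R f₀) (R p) ≠ 0 := by rw [Ne, e.bp_r]; exact w1
    have a2 : B (R p) (R f) ≠ 0 := by rw [bp_comm, Ne, e.bp_r]; exact w2.2
    exact (adj hg hp b1 b2 a1 a2 (by rw [Ne, e.bp_r]; exact w3.2)).trans
      (adj hp hg' a1 a2 b3 b4 (by rw [bp_comm, Ne, e.bp_r]; exact w4.2))

/-- A member over a singular point orthogonal to neither of two points. -/
theorem exists_between {f g : G} (hf : f ∈ far D x) (hg : g ∈ far D x) :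
    ∃ p ∈ far D x, B (R f) (R p) ≠ 0 ∧ B (R p) (R g) ≠ 0 := by
  obtain ⟨q0, n0, -⟩ := hR f hf
  obtain ⟨q1, n1, -⟩ := hR g hg
  obtain ⟨w, hw, w1, w2⟩ := exists_mid h.dim h.nd q0 n0 q1 n1
  obtain ⟨p, hp, hpw⟩ := h.exists_over hw fun e => w1 (by rw [e, bp_zero_r])
  have e := h.rad_pm hp hpw (hR p hp)
  exact ⟨p, hp, by rw [Ne, e.bp_r]; exact w1, by rw [bp_comm, Ne, e.bp_r]; exact w2⟩

/-- A singular vector for each outer member, commuting meaning value one of the form. -/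
theorem exists_sign : ∃ L : G → Vc n,
    (∀ f ∈ far D x, Rad D x Q ν (L f) f) ∧
    (∀ f ∈ far D x, ∀ g ∈ far D x, B (L f) (L g) = 1 ↔ f ≠ g ∧ Commute f g) ∧
    (∀ f ∈ far D x, L (x * f * x⁻¹) = -L f) := by
  classical
  obtain ⟨c₀, hc₀D, hc₀⟩ := h.std.exists_noncomm h.mem
  have hf₀ : c₀ ∈ far D x := ⟨hc₀D, hc₀⟩
  choose mid hmid hmid1 hmid2 using fun f (hf : f ∈ far D x) => h.exists_between hR hf₀ hf
  obtain ⟨s, hs⟩ : ∃ s : G → ZMod 3, ∀ f (hf : f ∈ far D x),
      s f = cp Q R c₀ (mid f hf) * cp Q R (mid f hf) f :=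
    ⟨fun f => if hf : f ∈ far D x then cp Q R c₀ (mid f hf) * cp Q R (mid f hf) f else 1,
      fun f hf => by simp [hf]⟩
  have hs0 : ∀ f ∈ far D x, s f ≠ 0 := fun f hf => by
    rw [hs f hf]; exact mul_ne_zero (h.cp_ne hR (hmid1 f hf)) (h.cp_ne hR (hmid2 f hf))
  have via : ∀ {f p : G}, f ∈ far D x → p ∈ far D x → B (R c₀) (R p) ≠ 0 → B (R p) (R f) ≠ 0 →
      s f = cp Q R c₀ p * cp Q R p f := fun {f p} hf hp a1 a2 => by
    rw [hs f hf]
    exact h.cp_indep hR hf₀ hf (hmid f hf) hp (hmid1 f hf) (hmid2 f hf) a1 a2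
  have direct : ∀ {f : G}, f ∈ far D x → B (R c₀) (R f) ≠ 0 → s f = cp Q R c₀ f := fun {f} hf a => by
    have t := h.cp_triangle hR hf₀ hf (hmid f hf) a (hmid1 f hf) (by rw [bp_comm]; exact hmid2 f hf)
    rw [hs f hf, cp_comm R _ f]
    revert t
    generalize cp Q R c₀ f = a'
    generalize cp Q R c₀ (mid f hf) = b'
    generalize cp Q R f (mid f hf) = c'
    revert a' b' c'
    decide
  have edge : ∀ {f g : G}, f ∈ far D x → g ∈ far D x → B (R f) (R g) ≠ 0 → s f * s g = cp Q R f g := by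
    intro f g hf hg hb
    have hb' : B (R g) (R f) ≠ 0 := by rwa [bp_comm]
    by_cases h1 : B (R c₀) (R f) = 0
    · by_cases h2 : B (R c₀) (R g) = 0
      · obtain ⟨q0, n0, -⟩ := hR c₀ hf₀
        obtain ⟨w, hw, w0, w1, w2⟩ := exists_three h.nd q0 n0 (hR f hf).1 (hR g hg).1 h1 h2 hb
        obtain ⟨p, hp, hpw⟩ := h.exists_over hw fun e => w0 (by rw [e, bp_zero_r])
        have e := h.rad_pm hp hpw (hR p hp)
        have a0 : B (R c₀) (R p) ≠ 0 := by rw [Ne, e.bp_r]; exact w0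
        have a1 : B (R p) (R f) ≠ 0 := by rw [bp_comm, Ne, e.bp_r]; exact w1
        have a2 : B (R p) (R g) ≠ 0 := by rw [bp_comm, Ne, e.bp_r]; exact w2
        rw [via hf hp a0 a1, via hg hp a0 a2]
        have t := h.cp_triangle hR hp hf hg a1 a2 hb
        have k := f3_mul_self _ (h.cp_ne hR a0)
        revert t k
        generalize cp Q R c₀ p = a'
        generalize cp Q R p f = b'
        generalize cp Q R p g = c'
        generalize cp Q R f g = d'
        revert a' b' c' d'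
        decide
      · rw [direct hg h2, via hf hg h2 hb', cp_comm R f g]
        have k := f3_mul_self _ (h.cp_ne hR h2)
        revert k
        generalize cp Q R c₀ g = a'
        generalize cp Q R g f = b'
        revert a' b'
        decide
    · rw [direct hf h1, via hg hf h1 hb, ← mul_assoc, f3_mul_self _ (h.cp_ne hR h1), one_mul]
  have hL : ∀ f ∈ far D x, Rad D x Q ν (s f • R f) f := fun f hf => by
    obtain ⟨q0, n0, k0⟩ := hR f hf
    exact ⟨by rw [qv_smul, q0, mul_zero], smul_ne_zero (hs0 f hf) n0,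
      fun a ha => (k0 a ha).pm (pm_smul (hs0 f hf) _)⟩
  have main : ∀ f ∈ far D x, ∀ g ∈ far D x, B (s f • R f) (s g • R g) = 1 ↔ f ≠ g ∧ Commute f g := by
    intro f hf g hg
    rw [bp_smul_l, bp_smul_r]
    by_cases hb : B (R f) (R g) = 0
    · rw [hb, mul_zero, mul_zero]
      exact iff_of_false zero_ne_one fun k => h.comm_bp hf hg (hR f hf) (hR g hg) k.1 k.2 hb
    · rw [← mul_assoc, edge hf hg hb, cp, mul_assoc, f3_mul_self _ hb, mul_one, ep_eq_one]
      refine ⟨fun k => ⟨fun e => hb ?_, k⟩, fun k => k.2⟩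
      rw [e, bp_self, (hR g hg).1, neg_zero]
  refine ⟨fun f => s f • R f, hL, main, fun f hf => ?_⟩
  have hf' := h.xfx_far hf
  rcases (h.rad_pm hf' (h.rad_xfx (hL f hf)) (hL _ hf')) with e | e
  · exfalso
    obtain ⟨p, hp, hb, -⟩ := h.exists_between hR hf hf
    have hb' : B (R p) (R f) ≠ 0 := by rwa [bp_comm]
    have hb'' : B (R p) (R (x * f * x⁻¹)) ≠ 0 := by
      rw [Ne, (h.rad_pm hf' (h.rad_xfx (hR f hf)) (hR _ hf')).bp_r]; exact hb'
    have e1 := edge hp hf hb'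
    have e2 := edge hp hf' hb''
    rw [cp, h.ep_flip hR hp hf hb'] at e2
    rw [cp] at e1
    have e3 : B (R p) (s (x * f * x⁻¹) • R (x * f * x⁻¹)) = B (R p) (s f • R f) := congrArg (B (R p)) e
    rw [bp_smul_r, bp_smul_r] at e3
    have hp0 := hs0 p hp
    have hep := ep_ne p f
    revert e1 e2 e3 hp0 hep hb' hb''
    generalize s p = a'
    generalize s f = b'
    generalize s (x * f * x⁻¹) = c'
    generalize ep p f = d'
    generalize B (R p) (R f) = p'
    generalize B (R p) (R (x * f * x⁻¹)) = q'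
    intro h1 h2 h3 h4 h5 h6 h7
    rcases f3_cases p' h1 with rfl | rfl <;> rcases f3_cases q' h2 with rfl | rfl <;>
      rcases f3_cases d' h7 with rfl | rfl <;> rcases f3_cases a' h6 with rfl | rfl <;>
      revert h3 h4 h5 <;> revert b' c' <;> decide
  · exact e

end Setup

end Cfsg.Agent.Fischer.OThree
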