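import Cfsg.Agent.Lib.Fischer.OThree.Frame

/-!
Fischer's theorem, the row of the orthogonal groups over the field with three elements: the two
exceptional isomorphisms in dimension five, `U4(2)` on 45 and `O6-(2)` on 36 members.
-/

set_option autoImplicit false
set_option maxRecDepth 4000

namespace Cfsg.Agent.Fischer.OThree

open Cfsg.Agent.InvChar.Coset (FF)

universe u

/-- The form of plus discriminant. -/
noncomputable def qFive (d : ZMod 3) : QuadraticForm (ZMod 3) (Vc 5) :=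
  QuadraticMap.weightedSumSquares (ZMod 3) ![1, 1, 1, 1, d]

/-- Its values. -/
def qv5 (d : ZMod 3) (v : Vc 5) : ZMod 3 := v 0 * v 0 + v 1 * v 1 + v 2 * v 2 + v 3 * v 3 + d * (v 4 * v 4)

/-- Its polar form. -/
def bp5 (d : ZMod 3) (v w : Vc 5) : ZMod 3 :=
  -(v 0 * w 0 + v 1 * w 1 + v 2 * w 2 + v 3 * w 3 + d * (v 4 * w 4))

theorem qFive_apply (d : ZMod 3) (v : Vc 5) : qFive d v = qv5 d v := by
  simp [qFive, qv5, QuadraticMap.weightedSumSquares_apply, Fin.sum_univ_five]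

theorem qFive_polar (d : ZMod 3) (v w : Vc 5) : QuadraticMap.polar (qFive d) v w = bp5 d v w := by
  rw [QuadraticMap.polar, qFive_apply, qFive_apply, qFive_apply]
  simp only [qv5, bp5, Pi.add_apply]
  have : ∀ a b : ZMod 3, (a + b) * (a + b) = a * a + b * b - a * b := by decide
  simp only [this]
  ring

theorem qFive_nd {d : ZMod 3} (hd : d ≠ 0) : (QuadraticMap.polarBilin (qFive d)).Nondegenerate := by
  have left : ∀ u, (∀ y, QuadraticMap.polar (qFive d) u y = 0) → u = 0 := by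
    intro u hu
    funext i
    have h1 := hu (Pi.single i 1)
    rw [qFive_polar] at h1
    fin_cases i <;> simp [bp5, Pi.single_apply, hd] at h1 <;> simpa using h1
  exact ⟨fun u hu => left u hu, fun u hu => left u fun y => by
    rw [QuadraticMap.polar_comm]; exact hu y⟩

/-- A table. -/
def o45 : Fin 45 → Vc 5 :=
  ![![0, 0, 0, 0, 1],
    ![1, 1, 1, 0, 1],
    ![1, 1, 1, 0, 2],
    ![1, 2, 0, 1, 2],
    ![1, 0, 2, 2, 1],
    ![0, 1, 2, 1, 2],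
    ![1, 2, 0, 1, 1],
    ![1, 0, 2, 2, 2],
    ![0, 1, 2, 1, 1],
    ![1, 2, 0, 2, 2],
    ![1, 0, 2, 1, 1],
    ![0, 1, 2, 2, 2],
    ![1, 2, 0, 2, 1],
    ![1, 0, 2, 1, 2],
    ![0, 1, 2, 2, 1],
    ![0, 0, 0, 1, 0],
    ![0, 0, 1, 0, 0],
    ![1, 2, 2, 0, 1],
    ![1, 2, 1, 0, 1],
    ![1, 2, 2, 0, 2],
    ![0, 1, 0, 0, 0],
    ![1, 1, 2, 0, 2],
    ![1, 2, 1, 0, 2],
    ![1, 1, 2, 0, 1],
    ![1, 0, 0, 0, 0],
    ![1, 1, 1, 1, 0],
    ![1, 2, 1, 2, 0],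
    ![1, 1, 0, 1, 1],
    ![0, 1, 1, 1, 2],
    ![1, 1, 0, 1, 2],
    ![1, 2, 2, 1, 0],
    ![1, 0, 1, 1, 1],
    ![0, 1, 1, 1, 1],
    ![1, 0, 1, 1, 2],
    ![1, 1, 2, 2, 0],
    ![1, 1, 1, 2, 0],
    ![1, 2, 2, 2, 0],
    ![1, 0, 1, 2, 1],
    ![1, 1, 0, 2, 2],
    ![1, 0, 1, 2, 2],
    ![1, 1, 2, 1, 0],
    ![0, 1, 1, 2, 1],
    ![1, 1, 0, 2, 1],
    ![0, 1, 1, 2, 2],
    ![1, 2, 1, 1, 0]]

/-- A table. -/
def u45 : Fin 45 → (Fin 4 → FF) :=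
  ![![FF.zero, FF.zero, FF.one, FF.one],
    ![FF.zero, FF.zero, FF.one, FF.w],
    ![FF.zero, FF.zero, FF.one, FF.w2],
    ![FF.zero, FF.one, FF.zero, FF.one],
    ![FF.zero, FF.one, FF.zero, FF.w],
    ![FF.zero, FF.one, FF.zero, FF.w2],
    ![FF.zero, FF.one, FF.one, FF.zero],
    ![FF.zero, FF.one, FF.w, FF.zero],
    ![FF.zero, FF.one, FF.w2, FF.zero],
    ![FF.one, FF.zero, FF.zero, FF.one],
    ![FF.one, FF.zero, FF.zero, FF.w],
    ![FF.one, FF.zero, FF.zero, FF.w2],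
    ![FF.one, FF.zero, FF.one, FF.zero],
    ![FF.one, FF.zero, FF.w, FF.zero],
    ![FF.one, FF.zero, FF.w2, FF.zero],
    ![FF.one, FF.one, FF.zero, FF.zero],
    ![FF.one, FF.one, FF.one, FF.one],
    ![FF.one, FF.one, FF.one, FF.w],
    ![FF.one, FF.one, FF.one, FF.w2],
    ![FF.one, FF.one, FF.w, FF.one],
    ![FF.one, FF.one, FF.w, FF.w],
    ![FF.one, FF.one, FF.w, FF.w2],
    ![FF.one, FF.one, FF.w2, FF.one],
    ![FF.one, FF.one, FF.w2, FF.w],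
    ![FF.one, FF.one, FF.w2, FF.w2],
    ![FF.one, FF.w, FF.zero, FF.zero],
    ![FF.one, FF.w, FF.one, FF.one],
    ![FF.one, FF.w, FF.one, FF.w],
    ![FF.one, FF.w, FF.one, FF.w2],
    ![FF.one, FF.w, FF.w, FF.one],
    ![FF.one, FF.w, FF.w, FF.w],
    ![FF.one, FF.w, FF.w, FF.w2],
    ![FF.one, FF.w, FF.w2, FF.one],
    ![FF.one, FF.w, FF.w2, FF.w],
    ![FF.one, FF.w, FF.w2, FF.w2],
    ![FF.one, FF.w2, FF.zero, FF.zero],
    ![FF.one, FF.w2, FF.one, FF.one],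
    ![FF.one, FF.w2, FF.one, FF.w],
    ![FF.one, FF.w2, FF.one, FF.w2],
    ![FF.one, FF.w2, FF.w, FF.one],
    ![FF.one, FF.w2, FF.w, FF.w],
    ![FF.one, FF.w2, FF.w, FF.w2],
    ![FF.one, FF.w2, FF.w2, FF.one],
    ![FF.one, FF.w2, FF.w2, FF.w],
    ![FF.one, FF.w2, FF.w2, FF.w2]]

/-- A table. -/
def o36 : Fin 36 → Vc 5 :=
  ![![0, 0, 0, 1, 0],
    ![1, 1, 1, 1, 0],
    ![1, 1, 1, 2, 0],
    ![0, 0, 1, 0, 0],
    ![1, 1, 2, 2, 0],
    ![1, 1, 2, 1, 0],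
    ![0, 1, 0, 0, 0],
    ![1, 2, 1, 2, 0],
    ![1, 2, 1, 1, 0],
    ![1, 0, 0, 0, 0],
    ![1, 2, 2, 1, 0],
    ![1, 2, 2, 2, 0],
    ![1, 0, 1, 0, 1],
    ![0, 1, 0, 2, 2],
    ![0, 1, 0, 1, 2],
    ![1, 0, 2, 0, 1],
    ![1, 0, 1, 0, 2],
    ![0, 1, 0, 2, 1],
    ![0, 1, 0, 1, 1],
    ![1, 0, 2, 0, 2],
    ![1, 1, 0, 0, 1],
    ![0, 0, 1, 2, 2],
    ![0, 0, 1, 1, 2],
    ![1, 1, 0, 0, 2],
    ![0, 0, 1, 2, 1],
    ![0, 0, 1, 1, 1],
    ![1, 2, 0, 0, 1],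
    ![1, 2, 0, 0, 2],
    ![0, 1, 1, 0, 1],
    ![1, 0, 0, 2, 2],
    ![1, 0, 0, 1, 2],
    ![0, 1, 2, 0, 1],
    ![0, 1, 2, 0, 2],
    ![0, 1, 1, 0, 2],
    ![1, 0, 0, 2, 1],
    ![1, 0, 0, 1, 1]]

/-- A table. -/
def b36 : Fin 36 → ((Fin 2 ⊕ Fin 2) ⊕ Fin 2 → ZMod 2) :=
  ![Sum.elim (Sum.elim ![0, 0] ![0, 0]) ![0, 1],
    Sum.elim (Sum.elim ![0, 0] ![0, 0]) ![1, 0],
    Sum.elim (Sum.elim ![0, 0] ![0, 0]) ![1, 1],
    Sum.elim (Sum.elim ![0, 0] ![0, 1]) ![0, 1],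
    Sum.elim (Sum.elim ![0, 0] ![0, 1]) ![1, 0],
    Sum.elim (Sum.elim ![0, 0] ![0, 1]) ![1, 1],
    Sum.elim (Sum.elim ![0, 0] ![1, 0]) ![0, 1],
    Sum.elim (Sum.elim ![0, 0] ![1, 0]) ![1, 0],
    Sum.elim (Sum.elim ![0, 0] ![1, 0]) ![1, 1],
    Sum.elim (Sum.elim ![0, 0] ![1, 1]) ![0, 1],
    Sum.elim (Sum.elim ![0, 0] ![1, 1]) ![1, 0],
    Sum.elim (Sum.elim ![0, 0] ![1, 1]) ![1, 1],
    Sum.elim (Sum.elim ![0, 1] ![0, 0]) ![0, 1],
    Sum.elim (Sum.elim ![0, 1] ![0, 0]) ![1, 0],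
    Sum.elim (Sum.elim ![0, 1] ![0, 0]) ![1, 1],
    Sum.elim (Sum.elim ![0, 1] ![0, 1]) ![0, 0],
    Sum.elim (Sum.elim ![0, 1] ![1, 0]) ![0, 1],
    Sum.elim (Sum.elim ![0, 1] ![1, 0]) ![1, 0],
    Sum.elim (Sum.elim ![0, 1] ![1, 0]) ![1, 1],
    Sum.elim (Sum.elim ![0, 1] ![1, 1]) ![0, 0],
    Sum.elim (Sum.elim ![1, 0] ![0, 0]) ![0, 1],
    Sum.elim (Sum.elim ![1, 0] ![0, 0]) ![1, 0],
    Sum.elim (Sum.elim ![1, 0] ![0, 0]) ![1, 1],
    Sum.elim (Sum.elim ![1, 0] ![0, 1]) ![0, 1],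
    Sum.elim (Sum.elim ![1, 0] ![0, 1]) ![1, 0],
    Sum.elim (Sum.elim ![1, 0] ![0, 1]) ![1, 1],
    Sum.elim (Sum.elim ![1, 0] ![1, 0]) ![0, 0],
    Sum.elim (Sum.elim ![1, 0] ![1, 1]) ![0, 0],
    Sum.elim (Sum.elim ![1, 1] ![0, 0]) ![0, 1],
    Sum.elim (Sum.elim ![1, 1] ![0, 0]) ![1, 0],
    Sum.elim (Sum.elim ![1, 1] ![0, 0]) ![1, 1],
    Sum.elim (Sum.elim ![1, 1] ![0, 1]) ![0, 0],
    Sum.elim (Sum.elim ![1, 1] ![1, 0]) ![0, 0],
    Sum.elim (Sum.elim ![1, 1] ![1, 1]) ![0, 1],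
    Sum.elim (Sum.elim ![1, 1] ![1, 1]) ![1, 0],
    Sum.elim (Sum.elim ![1, 1] ![1, 1]) ![1, 1]]

theorem o45_val : ∀ i, qv5 1 (o45 i) = 1 := by decide +kernel

theorem o45_all : ∀ v, qv5 1 v = 1 → ∃ i, v = o45 i ∨ v = -o45 i := by decide +kernel

theorem o45_inj : ∀ i j, (o45 i = o45 j ∨ o45 i = -o45 j) → i = j := by decide +kernel

theorem u45_val : ∀ i, u45 i ≠ 0 ∧ Cfsg.hermForm 4 FF 2 (u45 i) (u45 i) = 0 := by decide +kernel

theorem u45_all : ∀ v : Fin 4 → FF, v ≠ 0 → Cfsg.hermForm 4 FF 2 v v = 0 → ∃ i, ∃ c : FF, v = c • u45 i := by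
  decide +kernel

theorem u45_inj : ∀ i j, ∀ c : FF, u45 i = c • u45 j → i = j := by decide +kernel

theorem u45_comm : ∀ i j, Cfsg.hermForm 4 FF 2 (u45 i) (u45 j) = 0 ↔ (i = j ∨ bp5 1 (o45 i) (o45 j) = 0) := by
  decide +kernel

theorem o36_val : ∀ i, qv5 2 (o36 i) = 1 := by decide +kernel

theorem o36_all : ∀ v, qv5 2 v = 1 → ∃ i, v = o36 i ∨ v = -o36 i := by decide +kernel

theorem o36_inj : ∀ i j, (o36 i = o36 j ∨ o36 i = -o36 j) → i = j := by decide +kernel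

theorem b36_val : ∀ i, Cfsg.quadFormMinus 2 (ZMod 2) 1 1 (b36 i) = 1 := by decide +kernel

theorem b36_all : ∀ v, Cfsg.quadFormMinus 2 (ZMod 2) 1 1 v = 1 → ∃ i, v = b36 i := by decide +kernel

theorem b36_inj : ∀ i j, b36 i = b36 j → i = j := by decide +kernel

theorem b36_comm : ∀ i j, QuadraticMap.polar (Cfsg.quadFormMinus 2 (ZMod 2) 1 1) (b36 i) (b36 j) = 0 ↔
    (i = j ∨ bp5 2 (o36 i) (o36 j) = 0) := by
  decide +kernel

variable {G : Type u} [Group G] {E : Set G}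

/-- A table gives an isomorphism of graphs with the points of value one. -/
theorem giso_of_table {d : ZMod 3} {N : ℕ} {P : Type} {R : P → P → Prop} (o : Fin N → Vc 5)
    (p : Fin N → P) (hval : ∀ i, qv5 d (o i) = 1) (hall : ∀ v, qv5 d v = 1 → ∃ i, v = o i ∨ v = -o i)
    (hinj : ∀ i j, (o i = o j ∨ o i = -o j) → i = j) (pall : ∀ t, ∃ i, t = p i)
    (pinj : ∀ i j, p i = p j → i = j) (hcomm : ∀ i j, R (p i) (p j) ↔ (i = j ∨ bp5 d (o i) (o j) = 0))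
    (h : GIso E R) : GIso E (o3R (qFive d)) := by
  obtain ⟨φ, hφ⟩ := h
  let m : Fin N → O3P (qFive d) := fun i =>
    ⟨{o i, -o i}, o i, by rw [qFive_apply]; exact hval i, rfl⟩
  have em : Function.Bijective m := by
    refine ⟨fun i j e => hinj i j ?_, ?_⟩
    · have h1 : o i ∈ ({o j, -o j} : Set (Vc 5)) := by
        rw [← show ({o i, -o i} : Set (Vc 5)) = {o j, -o j} from congrArg Subtype.val e]
        exact Or.inl rfl
      exact h1
    · rintro ⟨s, v, hv, rfl⟩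
      rw [qFive_apply] at hv
      obtain ⟨i, hi⟩ := hall v hv
      exact ⟨i, Subtype.ext (pair_eq (show Pm v (o i) from hi)).symm⟩
  have ep : Function.Bijective p := ⟨fun i j e => pinj i j e, fun t => (pall t).imp fun _ e => e.symm⟩
  let ψ : E ≃ O3P (qFive d) := φ.trans ((Equiv.ofBijective p ep).symm.trans (Equiv.ofBijective m em))
  refine ⟨ψ, fun a b => ?_⟩
  obtain ⟨i, hi⟩ : ∃ i, φ a = p i := pall _
  obtain ⟨j, hj⟩ : ∃ j, φ b = p j := pall _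
  have key : ∀ (a : E) (i : Fin N), φ a = p i → ψ a = m i := fun a i e => by
    show m ((Equiv.ofBijective p ep).symm (φ a)) = m i
    rw [e, Equiv.ofBijective_symm_apply_apply]
  rw [hφ a b, hi, hj, hcomm, key a i hi, key b j hj]
  constructor
  · rintro (e | e)
    · exact Or.inl (by rw [e])
    · refine Or.inr fun v hv w hw => ?_
      rw [← qFive_polar] at e
      rcases hv with rfl | rfl <;> rcases hw with rfl | rfl <;>
        simp only [bp_neg_l, bp_neg_r, e, neg_zero]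
  · rintro (e | e)
    · exact Or.inl (em.1 e)
    · refine Or.inr ?_
      rw [← qFive_polar]
      exact e _ (Or.inl rfl) _ (Or.inl rfl)

/-- The unitary group in dimension four. -/
theorem unit_four_o3 (h : GIso E (uR 4)) : ∃ Q : QuadraticForm (ZMod 3) (Vc 5),
    (QuadraticMap.polarBilin Q).Nondegenerate ∧ GIso E (o3R Q) := by
  refine ⟨qFive 1, qFive_nd one_ne_zero, giso_of_table o45
    (fun i => ⟨Submodule.span FF {u45 i}, u45 i, (u45_val i).1, (u45_val i).2, rfl⟩)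
    o45_val o45_all o45_inj ?_ ?_ ?_ h⟩
  · rintro ⟨L, v, hv0, hv, rfl⟩
    obtain ⟨i, c, rfl⟩ := u45_all v hv0 hv
    refine ⟨i, Subtype.ext (Submodule.span_singleton_smul_eq (IsUnit.mk0 c ?_) _)⟩
    rintro rfl
    exact hv0 (zero_smul _ _)
  · intro i j e
    have h1 : u45 i ∈ Submodule.span FF {u45 j} := by
      have e' : Submodule.span FF {u45 i} = Submodule.span FF {u45 j} := congrArg Subtype.val e
      rw [← e']; exact Submodule.mem_span_singleton_self _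
    obtain ⟨c, hc⟩ := Submodule.mem_span_singleton.1 h1
    exact u45_inj i j c hc.symm
  · intro i j
    rw [← u45_comm]
    refine ⟨fun e => e _ (Submodule.mem_span_singleton_self _) _ (Submodule.mem_span_singleton_self _),
      fun e v hv w hw => ?_⟩
    obtain ⟨a, rfl⟩ := Submodule.mem_span_singleton.1 hv
    obtain ⟨b, rfl⟩ := Submodule.mem_span_singleton.1 hw
    simp only [Cfsg.hermForm, Pi.smul_apply, smul_eq_mul, mul_pow] at e ⊢
    rw [show ∑ x, a * u45 i x * (b ^ 2 * u45 j x ^ 2) = a * b ^ 2 * ∑ x, u45 i x * u45 j x ^ 2 by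
      rw [Finset.mul_sum]; exact Finset.sum_congr rfl fun x _ => by ring, e, mul_zero]

/-- The minus orthogonal group in dimension six over two elements. -/
theorem o2m_two_o3 (h : GIso E (o2R (Cfsg.quadFormMinus 2 (ZMod 2) 1 1))) :
    ∃ Q : QuadraticForm (ZMod 3) (Vc 5), (QuadraticMap.polarBilin Q).Nondegenerate ∧ GIso E (o3R Q) :=
  ⟨qFive 2, qFive_nd (by decide), giso_of_table o36 (fun i => ⟨b36 i, b36_val i⟩) o36_val o36_all o36_inj
    (fun t => (b36_all t.1 t.2).imp fun _ e => Subtype.ext e)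
    (fun i j e => b36_inj i j (congrArg Subtype.val e)) b36_comm h⟩

end Cfsg.Agent.Fischer.OThree
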